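import Cfsg.Agent.Lib.InvChar.CosetCert

/-!
# Matrices over the field of two elements as lists of bit rows

`app A u` is the product of the row vector `u` with the matrix `A`; `Rep g A` says that the
permutation `g` of the vectors is that map.
-/

set_option autoImplicit false

namespace CfsgLib.KnownA.BitMat

open CfsgLib.InvChar.Coset

/-- The product of a bit vector with a list of rows. -/
noncomputable def app : List ℕ → ℕ → ℕ :=
  List.rec (fun _ => 0) fun r _ ih u =>
    force (u >>> 1) fun u' => force (ih u') fun w => bif Nat.beq (u % 2) 0 then w else Nat.xor r w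

theorem app_nil (u : ℕ) : app [] u = 0 := rfl

theorem app_cons (r : ℕ) (A : List ℕ) (u : ℕ) :
    app (r :: A) u = (if u % 2 = 0 then 0 else r) ^^^ app A (u >>> 1) := by
  show (force (u >>> 1) fun u' => force (app A u') fun w =>
    bif Nat.beq (u % 2) 0 then w else Nat.xor r w) = _
  simp only [force_eq]
  cases h : Nat.beq (u % 2) 0
  · rw [if_neg fun e => by simp [e] at h, cond_false]; rfl
  · rw [if_pos (Nat.eq_of_beq_eq_true h), cond_true, Nat.zero_xor]

theorem app_zero : ∀ A : List ℕ, app A 0 = 0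
  | [] => rfl
  | r :: A => by rw [app_cons, Nat.zero_shiftRight, app_zero A]; simp

theorem app_xor : ∀ (A : List ℕ) (u v : ℕ), app A (u ^^^ v) = app A u ^^^ app A v
  | [], u, v => by simp [app_nil]
  | r :: A, u, v => by
    rw [app_cons, app_cons, app_cons, Nat.shiftRight_xor_distrib, app_xor A]
    have h : (u ^^^ v) % 2 = u % 2 ^^^ v % 2 := by
      have := Nat.xor_mod_two_pow (a := u) (b := v) (n := 1)
      simpa using this
    rw [h]
    rcases Nat.mod_two_eq_zero_or_one u with hu | hu <;> rcases Nat.mod_two_eq_zero_or_one v with hv | hv <;>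
      simp [hu, hv]
    all_goals (apply Nat.eq_of_testBit_eq; intro i; simp only [Nat.testBit_xor]; cases r.testBit i <;> simp)

theorem app_lt {n : ℕ} : ∀ {A : List ℕ}, (∀ r ∈ A, r < 2 ^ n) → ∀ u, app A u < 2 ^ n
  | [], _, u => by simp [app_nil]
  | r :: A, h, u => by
    rw [app_cons]
    refine Nat.xor_lt_two_pow ?_ (app_lt (fun s hs => h s (List.mem_cons_of_mem _ hs)) _)
    split_ifs
    · exact Nat.two_pow_pos n
    · exact h r List.mem_cons_self

/-- Applying a linear map after a matrix is the matrix with the images as rows. -/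
theorem app_map (A : List ℕ) : ∀ (B : List ℕ) (u : ℕ), app A (app B u) = app (B.map (app A)) u
  | [], u => by simp [app_nil, app_zero]
  | r :: B, u => by
    rw [List.map_cons, app_cons, app_cons, app_xor, app_map A B]
    split_ifs <;> simp [app_zero]

/-- The rows of the unit matrix starting at bit `k`. -/
def idRows : ℕ → ℕ → List ℕ
  | _, 0 => []
  | k, n + 1 => 2 ^ k :: idRows (k + 1) n

theorem app_idRows : ∀ (n k u : ℕ), u < 2 ^ n → app (idRows k n) u = u <<< k
  | 0, k, u, hu => by obtain rfl : u = 0 := by simpa using hu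
                      simp [app_zero]
  | n + 1, k, u, hu => by
    have hu' : u >>> 1 < 2 ^ n := by rw [Nat.shiftRight_eq_div_pow]; omega
    rw [idRows, app_cons, app_idRows n (k + 1) _ hu']
    apply Nat.eq_of_testBit_eq
    intro i
    rw [Nat.testBit_xor, Nat.testBit_shiftLeft, Nat.testBit_shiftLeft, Nat.testBit_shiftRight]
    rcases Nat.mod_two_eq_zero_or_one u with h0 | h0
    · rw [if_pos h0, Nat.zero_testBit]
      rcases lt_trichotomy i k with h | rfl | h
      · simp [show ¬ i ≥ k + 1 by omega, show ¬ i ≥ k by omega]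
      · simp [h0, Nat.testBit_zero]
      · simp [show i ≥ k + 1 by omega, show i ≥ k by omega, show 1 + (i - (k + 1)) = i - k by omega]
    · rw [if_neg (by omega), Nat.testBit_two_pow]
      rcases lt_trichotomy i k with h | rfl | h
      · simp [show ¬ i ≥ k + 1 by omega, show ¬ i ≥ k by omega, show k ≠ i by omega]
      · simp [h0, Nat.testBit_zero]
      · simp [show i ≥ k + 1 by omega, show i ≥ k by omega, show k ≠ i by omega,
          show 1 + (i - (k + 1)) = i - k by omega]

variable {n : ℕ}

/-- Bit vectors of length `n`. -/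
abbrev Vec (n : ℕ) : Type := {u : ℕ // u < 2 ^ n}

/-- The permutation `g` is multiplication by the matrix `A`. -/
def Rep (g : Equiv.Perm (Vec n)) (A : List ℕ) : Prop := ∀ u : Vec n, (g u : ℕ) = app A u

theorem Rep.mul {g h : Equiv.Perm (Vec n)} {A B C : List ℕ} (hg : Rep g A) (hh : Rep h B)
    (hC : B.map (app A) = C) : Rep (g * h) C := fun u => by
  rw [Equiv.Perm.mul_apply, hg, hh, app_map, hC]

theorem Rep.inv {g : Equiv.Perm (Vec n)} {A B : List ℕ} (hg : Rep g A)
    (hB : A.map (app B) = idRows 0 n) : Rep g⁻¹ B := fun u => by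
  have h := congrArg (app B) (hg (g⁻¹ u))
  rw [show g (g⁻¹ u) = u from g.apply_symm_apply u, app_map, hB, app_idRows n 0 _ (g⁻¹ u).2, Nat.shiftLeft_zero] at h
  exact h.symm

theorem Rep.pow_one {g : Equiv.Perm (Vec n)} {A : List ℕ} (hg : Rep g A) : Rep (g ^ 1) A := by
  rwa [_root_.pow_one]

theorem Rep.pow_add {g : Equiv.Perm (Vec n)} {a b : ℕ} {A B C : List ℕ} (ha : Rep (g ^ a) A)
    (hb : Rep (g ^ b) B) (hC : B.map (app A) = C) {c : ℕ} (hc : a + b = c) : Rep (g ^ c) C := by
  rw [← hc, _root_.pow_add]; exact ha.mul hb hC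

theorem Rep.eq_one {g : Equiv.Perm (Vec n)} (hg : Rep g (idRows 0 n)) : g = 1 :=
  Equiv.ext fun u => Subtype.ext (by rw [hg, app_idRows n 0 _ u.2, Nat.shiftLeft_zero]; rfl)

/-- The permutation given by a matrix and its inverse. -/
noncomputable def mkPerm (n : ℕ) (A B : List ℕ) (hA : ∀ r ∈ A, r < 2 ^ n) (hB : ∀ r ∈ B, r < 2 ^ n)
    (hAB : A.map (app B) = idRows 0 n) (hBA : B.map (app A) = idRows 0 n) : Equiv.Perm (Vec n) where
  toFun u := ⟨app A u, app_lt hA _⟩
  invFun u := ⟨app B u, app_lt hB _⟩
  left_inv u := Subtype.ext (by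
    show app B (app A u) = _
    rw [app_map, hAB, app_idRows n 0 _ u.2, Nat.shiftLeft_zero])
  right_inv u := Subtype.ext (by
    show app A (app B u) = _
    rw [app_map, hBA, app_idRows n 0 _ u.2, Nat.shiftLeft_zero])

theorem rep_mkPerm {A B : List ℕ} {hA : ∀ r ∈ A, r < 2 ^ n} {hB : ∀ r ∈ B, r < 2 ^ n}
    {hAB : A.map (app B) = idRows 0 n} {hBA : B.map (app A) = idRows 0 n} :
    Rep (mkPerm n A B hA hB hAB hBA) A := fun _ => rfl

end CfsgLib.KnownA.BitMat
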