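import Cfsg.Agent.Lib.KnownA.J4.E2F0

/-! The assembled certificate E2. -/

set_option autoImplicit false
set_option maxRecDepth 100000

namespace CfsgLib.KnownA.J4Cert.E2

open CfsgLib.InvChar.Coset CfsgLib.KnownA.CosetInv

theorem facts_ok : ∃ nb, cert.nf ≤ nb * 128 ∧ ∀ j < nb, cert.chkRun 128 (j * 128) (cert.just.get j) = true := by
  refine ⟨19, by decide +kernel, fun j hj => ?_⟩
  rcases Nat.lt_or_ge j 19 with h0 | h0
  · obtain ⟨i, rfl⟩ : ∃ i, j = 0 + i := ⟨j - 0, by omega⟩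
    exact cert.chkBlocks_get 19 0 chk_facts0 i (by omega)
  omega

theorem loops_ok : ∀ p ∈ loops, cert.chkGoal p.1 p.2.1 p.2.2 = true := by decide +kernel

end CfsgLib.KnownA.J4Cert.E2
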