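import Cfsg.Agent.Lib.KnownA.J4.Perms
import Cfsg.Agent.Lib.KnownA.J4.E1
import Cfsg.Agent.Lib.KnownA.J4.E2
import Cfsg.Agent.Lib.KnownA.J4.A3
import Cfsg.Agent.Lib.KnownA.J4.L462
import Cfsg.Agent.Lib.KnownA.J4.K12
import Cfsg.Agent.Lib.KnownA.J4.K3
import Cfsg.Agent.Lib.KnownA.J4.L239
import Cfsg.Agent.Lib.KnownA.J4.KEYS
import Cfsg.Agent.Lib.KnownA.J4.H0
import Cfsg.Agent.Lib.KnownA.J4.H11
import Cfsg.Agent.Lib.KnownA.J4.H13
import Cfsg.Agent.Lib.KnownA.J4.MAIN
import Cfsg.Agent.Lib.KnownA.J4.HENUM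
import Cfsg.Agent.Lib.KnownA.J4.KENUM

/-!
# The presentation of M24 used inside J4

A group with two generators satisfying the seven relators and mapped onto the generators of M24
has at most 244823040 elements.
-/

set_option autoImplicit false
set_option maxRecDepth 100000
set_option maxHeartbeats 1000000

namespace CfsgLib.KnownA.J4M24

open Cfsg CfsgLib.InvChar.Coset CfsgLib.KnownA.CosetInv CfsgLib.Golay

/-- The word `v` generating, with `x`, a subgroup of order 1320. -/
def vW : List ℕ := [2, 0, 1, 0, 1]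
/-- The word `w` generating, with `x`, the trio stabiliser. -/
def wW : List ℕ := [1, 0, 1, 0, 2, 0, 2, 0, 1, 0, 1, 0, 1]

/-- Substitution for the subgroup of order 1320. -/
def exK : ℕ → List ℕ
  | 0 => [0]
  | 1 => vW
  | 2 => [2, 0, 2, 0, 1]
  | _ + 3 => []

/-- Substitution for the trio stabiliser. -/
def exH : ℕ → List ℕ
  | 0 => [0]
  | 1 => wW
  | 2 => [2, 0, 2, 0, 2, 0, 1, 0, 1, 0, 2, 0, 2]
  | _ + 3 => []

/-- The words proved trivial by certificate E1. -/
def goalsOf_E1 : List (List ℕ) := J4Cert.E1.loops.map fun p => p.2.2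

/-- The words proved trivial by certificate E2. -/
def goalsOf_E2 : List (List ℕ) := J4Cert.E2.loops.map fun p => p.2.2

/-- The words proved trivial by certificate A3. -/
def goalsOf_A3 : List (List ℕ) := J4Cert.A3.loops.map fun p => p.2.2

/-- The words proved trivial by certificate L462. -/
def goalsOf_L462 : List (List ℕ) := J4Cert.L462.loops.map fun p => p.2.2

/-- The words proved trivial by certificate K12. -/
def goalsOf_K12 : List (List ℕ) := J4Cert.K12.loops.map fun p => p.2.2

/-- The words proved trivial by certificate K3. -/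
def goalsOf_K3 : List (List ℕ) := J4Cert.K3.loops.map fun p => p.2.2

/-- The words proved trivial by certificate H0. -/
def goalsOf_H0 : List (List ℕ) := J4Cert.H0.loops.map fun p => p.2.2

/-- The words proved trivial by certificate L239. -/
def goalsOf_L239 : List (List ℕ) := J4Cert.L239.loops.map fun p => p.2.2

/-- The words proved trivial by certificate KEYS. -/
def goalsOf_KEYS : List (List ℕ) := J4Cert.KEYS.loops.map fun p => p.2.2

/-- The words proved trivial by certificate H11. -/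
def goalsOf_H11 : List (List ℕ) := J4Cert.H11.loops.map fun p => p.2.2

/-- The words proved trivial by certificate H13. -/
def goalsOf_H13 : List (List ℕ) := J4Cert.H13.loops.map fun p => p.2.2

theorem exK_perm (n : ℕ) : wprod (lett px py) (exK n) = lett px (wprod (lett px py) vW) n := by
  match n with
  | 0 => simp [exK, wprod, lett]
  | 1 => rfl
  | 2 =>
    show _ = (wprod (lett px py) vW)⁻¹
    simp [exK, vW, wprod, lett, hyp_perm.inv_x, mul_assoc]
  | k + 3 => simp [exK, wprod, lett]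

/-- A group with generators satisfying the relators, mapped onto the standard permutations. -/
structure Ctx (G : Type*) [Group G] where
  /-- first generator -/
  x : G
  /-- second generator -/
  y : G
  /-- the map to permutations -/
  f : G →* Equiv.Perm GolayPt
  hyp : Hyp x y
  fx : f x = px
  fy : f y = py
  gen : Subgroup.closure ({x, y} : Set G) = ⊤

namespace Ctx

variable {G : Type*} [Group G] (c : Ctx G)

/-- The letters. -/
def s : ℕ → G := lett c.x c.y

theorem map_s (g : List ℕ) : c.f (wprod c.s g) = wprod (lett px py) g :=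
  map_wprod c.f c.s (lett px py) g fun n _ => match n with
    | 0 => c.fx
    | 1 => c.fy
    | 2 => (map_inv c.f c.y).trans (congrArg _ c.fy)
    | _ + 3 => map_one c.f

theorem sq_x : c.x * c.x = 1 := by rw [← pow_two]; exact c.hyp.r1

theorem good {D : CosetInv.Cert} (h : D.ivs = 0xfedcba9876543120) : Good D c.s :=
  good_lett c.sq_x (iv_eq h)

/-- A word is known to be trivial. -/
def Triv (g : List ℕ) : Prop := wprod c.s g = 1

theorem triv_rels : ∀ g ∈ rels7, c.Triv g := c.hyp.wprod_rels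

/-- The cyclic subgroup of order 23. -/
def cyc : Subgroup G := Subgroup.zpowers (c.x * c.y)

theorem mem_cyc : ∀ r ∈ [[0, 1]], wprod c.s r ∈ c.cyc := by
  simp [wprod, s, lett, cyc]

theorem triv_of_mem_cyc {g : List ℕ} (hg : wprod c.s g ∈ c.cyc) (hp : wprod (lett px py) g = 1) :
    c.Triv g := by
  refine eq_one_of_mem_zpowers c.f (by norm_num : Nat.Prime 23) c.hyp.r3 ?_ hg ((c.map_s g).trans hp)
  rw [map_mul, c.fx, c.fy, show px * py = wprod (lett px py) [0, 1] by simp [wprod, lett]]
  exact wprod_ne_one_of_evL (by decide +kernel)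

/-- The subgroup of order 1320. -/
def subK : Subgroup G := Subgroup.closure ({c.x, wprod c.s vW} : Set G)

theorem mem_subK : ∀ r ∈ [[0], vW], wprod c.s r ∈ c.subK := by
  simp only [List.forall_mem_cons, List.not_mem_nil]
  exact ⟨Subgroup.subset_closure (by simp [wprod, s, lett]), Subgroup.subset_closure (by simp),
    fun _ h => h.elim⟩

theorem triv_E1 : ∀ g ∈ goalsOf_E1, c.Triv g := by
  intro g hg
  have hR : ∀ r ∈ J4Cert.E1.cert.rels, wprod c.s r = 1 := by
    intro r hr
    exact c.triv_rels r ((by decide +kernel : ∀ r ∈ J4Cert.E1.rels, r ∈ rels7) r hr)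
  exact (mem_of_chkGoals (H := (⊥ : Subgroup G)) (c.good rfl) hR (fun r hr => by cases hr)
    J4Cert.E1.facts_ok J4Cert.E1.loops_ok g hg)

theorem triv_E2 : ∀ g ∈ goalsOf_E2, c.Triv g := by
  intro g hg
  have hR : ∀ r ∈ J4Cert.E2.cert.rels, wprod c.s r = 1 := by
    intro r hr
    have hr' := (by decide +kernel : ∀ r ∈ J4Cert.E2.rels, r ∈ rels7 ++ goalsOf_E1) r hr
    simp only [List.mem_append] at hr'
    rcases hr' with h | h
    · exact c.triv_rels r h
    · exact c.triv_E1 r h
  exact c.triv_of_mem_cyc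
    (mem_of_chkGoals (c.good rfl) hR c.mem_cyc J4Cert.E2.facts_ok J4Cert.E2.loops_ok g hg)
    (wprod_eq_one_of_evL ((by decide +kernel : ∀ g ∈ goalsOf_E2, evL g = List.range 24) g hg))

theorem triv_A3 : ∀ g ∈ goalsOf_A3, c.Triv g := by
  intro g hg
  have hR : ∀ r ∈ J4Cert.A3.cert.rels, wprod c.s r = 1 := by
    intro r hr
    have hr' := (by decide +kernel : ∀ r ∈ J4Cert.A3.rels, r ∈ rels7 ++ goalsOf_E1 ++ goalsOf_E2) r hr
    simp only [List.mem_append] at hr'
    rcases hr' with (h | h) | h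
    · exact c.triv_rels r h
    · exact c.triv_E1 r h
    · exact c.triv_E2 r h
  exact c.triv_of_mem_cyc
    (mem_of_chkGoals (c.good rfl) hR c.mem_cyc J4Cert.A3.facts_ok J4Cert.A3.loops_ok g hg)
    (wprod_eq_one_of_evL ((by decide +kernel : ∀ g ∈ goalsOf_A3, evL g = List.range 24) g hg))

theorem triv_L462 : ∀ g ∈ goalsOf_L462, c.Triv g := by
  intro g hg
  have hR : ∀ r ∈ J4Cert.L462.cert.rels, wprod c.s r = 1 := by
    intro r hr
    have hr' := (by decide +kernel : ∀ r ∈ J4Cert.L462.rels, r ∈ rels7 ++ goalsOf_E1 ++ goalsOf_E2 ++ goalsOf_A3) r hr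
    simp only [List.mem_append] at hr'
    rcases hr' with ((h | h) | h) | h
    · exact c.triv_rels r h
    · exact c.triv_E1 r h
    · exact c.triv_E2 r h
    · exact c.triv_A3 r h
  exact c.triv_of_mem_cyc
    (mem_of_chkGoals (c.good rfl) hR c.mem_cyc J4Cert.L462.facts_ok J4Cert.L462.loops_ok g hg)
    (wprod_eq_one_of_evL ((by decide +kernel : ∀ g ∈ goalsOf_L462, evL g = List.range 24) g hg))

theorem triv_K12 : ∀ g ∈ goalsOf_K12, c.Triv g := by
  intro g hg
  have hR : ∀ r ∈ J4Cert.K12.cert.rels, wprod c.s r = 1 := by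
    intro r hr
    have hr' := (by decide +kernel : ∀ r ∈ J4Cert.K12.rels, r ∈ rels7 ++ goalsOf_E1 ++ goalsOf_E2 ++ goalsOf_A3 ++ goalsOf_L462) r hr
    simp only [List.mem_append] at hr'
    rcases hr' with (((h | h) | h) | h) | h
    · exact c.triv_rels r h
    · exact c.triv_E1 r h
    · exact c.triv_E2 r h
    · exact c.triv_A3 r h
    · exact c.triv_L462 r h
  exact c.triv_of_mem_cyc
    (mem_of_chkGoals (c.good rfl) hR c.mem_cyc J4Cert.K12.facts_ok J4Cert.K12.loops_ok g hg)
    (wprod_eq_one_of_evL ((by decide +kernel : ∀ g ∈ goalsOf_K12, evL g = List.range 24) g hg))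

theorem triv_K3 : ∀ g ∈ goalsOf_K3, c.Triv g := by
  intro g hg
  have hR : ∀ r ∈ J4Cert.K3.cert.rels, wprod c.s r = 1 := by
    intro r hr
    have hr' := (by decide +kernel : ∀ r ∈ J4Cert.K3.rels, r ∈ rels7 ++ goalsOf_E1 ++ goalsOf_E2 ++ goalsOf_A3 ++ goalsOf_L462) r hr
    simp only [List.mem_append] at hr'
    rcases hr' with (((h | h) | h) | h) | h
    · exact c.triv_rels r h
    · exact c.triv_E1 r h
    · exact c.triv_E2 r h
    · exact c.triv_A3 r h
    · exact c.triv_L462 r h
  exact c.triv_of_mem_cyc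
    (mem_of_chkGoals (c.good rfl) hR c.mem_cyc J4Cert.K3.facts_ok J4Cert.K3.loops_ok g hg)
    (wprod_eq_one_of_evL ((by decide +kernel : ∀ g ∈ goalsOf_K3, evL g = List.range 24) g hg))

theorem triv_H0 : ∀ g ∈ goalsOf_H0, c.Triv g := by
  intro g hg
  have hR : ∀ r ∈ J4Cert.H0.cert.rels, wprod c.s r = 1 := by
    intro r hr
    have hr' := (by decide +kernel : ∀ r ∈ J4Cert.H0.rels, r ∈ rels7 ++ goalsOf_E1 ++ goalsOf_E2 ++ goalsOf_A3) r hr
    simp only [List.mem_append] at hr'
    rcases hr' with ((h | h) | h) | h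
    · exact c.triv_rels r h
    · exact c.triv_E1 r h
    · exact c.triv_E2 r h
    · exact c.triv_A3 r h
  exact c.triv_of_mem_cyc
    (mem_of_chkGoals (c.good rfl) hR c.mem_cyc J4Cert.H0.facts_ok J4Cert.H0.loops_ok g hg)
    (wprod_eq_one_of_evL ((by decide +kernel : ∀ g ∈ goalsOf_H0, evL g = List.range 24) g hg))

theorem substK_val (n : ℕ) : wprod c.s (exK n) = lett c.x (wprod c.s vW) n := by
  match n with
  | 0 => simp [exK, wprod, s, lett]
  | 1 => rfl
  | 2 =>
    show _ = (wprod c.s vW)⁻¹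
    simp [exK, vW, wprod, s, lett, c.hyp.inv_x, mul_assoc]
  | k + 3 => simp [exK, wprod, lett]

theorem rels_subK : ∀ r ∈ J4Cert.KENUM.rels, wprod (lett c.x (wprod c.s vW)) r = 1 := by
  intro r hr
  rw [← wprod_subst c.s (lett c.x (wprod c.s vW)) exK c.substK_val r, s, ← wprod_red c.hyp]
  have hr' := (by decide +kernel : ∀ r ∈ J4Cert.KENUM.rels, red (subst exK r) ∈ [] :: goalsOf_K12 ++ goalsOf_K3) r hr
  simp only [List.mem_append, List.mem_cons] at hr'
  rcases hr' with (h | h) | h
  · rw [h]; rfl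
  · exact c.triv_K12 _ h
  · exact c.triv_K3 _ h

theorem vW_pow : wprod c.s vW ^ 3 = 1 := by
  rw [← wprod_flatten_replicate c.s vW 3, s, ← wprod_red c.hyp,
    (by decide +kernel : red (List.replicate 3 vW).flatten = [])]
  rfl

theorem card_subK_le : Finite c.subK ∧ Nat.card c.subK ≤ 1320 :=
  card_pair_le J4Cert.KENUM.covered rfl rfl rfl c.sq_x (by norm_num) c.vW_pow c.rels_subK

/-- Eight words forming a subgroup of order eight. -/
def words8 : List (List ℕ) := [[], [0, 1, 0, 1, 0, 1], [2, 0, 2, 0, 2, 0], [0, 1, 0, 1, 0, 1, 0, 1, 0, 1, 0, 1], [1, 0, 1, 0, 1, 0, 1, 0, 2, 0, 2, 0, 2, 0, 2], [0, 2, 0, 2, 0, 2, 0, 2, 0, 1, 0, 1, 0, 1, 0, 2], [0, 1, 0, 1, 0, 2, 0, 2, 0, 2, 0, 2, 0, 1, 0, 1, 0, 1, 0, 1, 0], [1, 0, 1, 0, 1, 0, 1, 0, 2, 0, 2, 0, 2, 0, 2, 0, 1, 0, 1, 0, 1]]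

theorem image_subK_ge : 1320 ≤ Nat.card (c.subK.map c.f) := by
  set Kb : Subgroup (Equiv.Perm GolayPt) := c.subK.map c.f
  have hK : Kb = Subgroup.closure {px, wprod (lett px py) vW} := by
    show c.subK.map c.f = _
    rw [subK, MonoidHom.map_closure, Set.image_pair, c.fx, c.map_s]
  have hmem : ∀ r : List ℕ, wprod (lett px (wprod (lett px py) vW)) r ∈ Kb := by
    intro r
    rw [hK]
    refine Subgroup.list_prod_mem _ fun z hz => ?_
    obtain ⟨n, -, rfl⟩ := List.mem_map.1 hz
    match n with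
    | 0 => exact Subgroup.subset_closure (by simp [lett])
    | 1 => exact Subgroup.subset_closure (by simp [lett])
    | 2 => exact Subgroup.inv_mem _ (Subgroup.subset_closure (by simp))
    | k + 3 => exact Subgroup.one_mem _
  let ev : List ℕ → Equiv.Perm GolayPt := fun r => wprod (lett px (wprod (lett px py) vW)) r
  have hev : ∀ r, ev r = wprod (lett px py) (subst exK r) := fun r =>
    (wprod_subst (lett px py) (lett px (wprod (lett px py) vW)) exK exK_perm r).symm
  have hp : ∀ (p : ℕ) [Fact p.Prime] (r : List ℕ), evL (List.replicate p (subst exK r)).flatten = List.range 24 →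
      evL (subst exK r) ≠ List.range 24 → p ∣ Nat.card Kb := by
    intro p _ r h1 h2
    have := Subgroup.orderOf_dvd_natCard Kb (hmem r)
    have e1 : ev r ^ p = 1 := by
      rw [hev, ← wprod_flatten_replicate]; exact wprod_eq_one_of_evL h1
    rwa [show orderOf (wprod (lett px (wprod (lett px py) vW)) r) = p from
      orderOf_eq_prime e1 fun h => wprod_ne_one_of_evL h2 ((hev r).symm.trans h)] at this
  haveI : Fact (Nat.Prime 11) := ⟨by norm_num⟩
  haveI : Fact (Nat.Prime 5) := ⟨by norm_num⟩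
  have h11 := hp 11 [0, 1, 0, 1, 0, 2, 0, 2] (by decide +kernel) (by decide +kernel)
  have h5 := hp 5 [0, 1, 0, 2] (by decide +kernel) (by decide +kernel)
  have h3 := hp 3 [1] (by decide +kernel) (by decide +kernel)
  let S8 : Subgroup (Equiv.Perm GolayPt) :=
    { carrier := {g | g ∈ words8.map ev}
      one_mem' := List.mem_map.2 ⟨[], (by decide +kernel), rfl⟩
      mul_mem' := fun {a b} ha hb => by
        obtain ⟨r, hr, rfl⟩ := List.mem_map.1 ha
        obtain ⟨r', hr', rfl⟩ := List.mem_map.1 hb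
        obtain ⟨q, hq, e⟩ := (by decide +kernel : ∀ r ∈ words8, ∀ r' ∈ words8, ∃ q ∈ words8,
          evL (subst exK q) = evL (subst exK r ++ subst exK r')) r hr r' hr'
        refine List.mem_map.2 ⟨q, hq, ?_⟩
        rw [hev, hev, hev, ← wprod_append]; exact wprod_eq_of_evL e
      inv_mem' := fun {a} ha => by
        obtain ⟨r, hr, rfl⟩ := List.mem_map.1 ha
        obtain ⟨q, hq, e⟩ := (by decide +kernel : ∀ r ∈ words8, ∃ q ∈ words8,
          evL (subst exK q ++ subst exK r) = List.range 24) r hr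
        refine List.mem_map.2 ⟨q, hq, ?_⟩
        rw [hev, hev]
        exact eq_inv_of_mul_eq_one_left ((wprod_append _ _ _).symm.trans (wprod_eq_one_of_evL e)) }
  have h8 : 8 ∣ Nat.card Kb := by
    have hle : S8 ≤ Kb := fun g hg => by
      obtain ⟨r, -, rfl⟩ := List.mem_map.1 (hg : g ∈ words8.map ev)
      exact hmem r
    have hc : Nat.card S8 = 8 := by
      rw [Nat.card_congr (Equiv.subtypeEquivRight (q := fun g => g ∈ (words8.map ev).toFinset)
        fun g => by simp [S8]), Nat.card_eq_fintype_card, Fintype.card_coe,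
        List.toFinset_card_of_nodup]
      · rfl
      · refine List.Nodup.map_on (fun r hr r' hr' e => ?_) (by decide +kernel)
        refine (by decide +kernel : ∀ r ∈ words8, ∀ r' ∈ words8,
          evL (subst exK r) = evL (subst exK r') → r = r') r hr r' hr' ?_
        refine List.map_congr_left fun i hi => ?_
        have hi := List.mem_range.1 hi
        rw [hev, hev] at e
        obtain ⟨a1, a2⟩ := wprod_pt (subst exK r) i hi
        obtain ⟨b1, b2⟩ := wprod_pt (subst exK r') i hi
        rw [e, b1] at a1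
        have := congrArg idx a1
        rw [idx_pt b2, idx_pt a2] at this
        exact this.symm
    rw [← hc]; exact Subgroup.card_dvd_of_le hle
  have hdvd : 11 * 5 * 3 * 8 ∣ Nat.card Kb :=
    Nat.Coprime.mul_dvd_of_dvd_of_dvd (by norm_num)
      (Nat.Coprime.mul_dvd_of_dvd_of_dvd (by norm_num)
        (Nat.Coprime.mul_dvd_of_dvd_of_dvd (by norm_num) h11 h5) h3) h8
  exact Nat.le_of_dvd Nat.card_pos hdvd

theorem triv_of_mem_subK {g : List ℕ} (hg : wprod c.s g ∈ c.subK) (hp : wprod (lett px py) g = 1) :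
    c.Triv g := by
  haveI := c.card_subK_le.1
  exact eq_one_of_card_le c.f (c.card_subK_le.2.trans c.image_subK_ge) hg ((c.map_s g).trans hp)

theorem triv_L239 : ∀ g ∈ goalsOf_L239, c.Triv g := by
  intro g hg
  have hR : ∀ r ∈ J4Cert.L239.cert.rels, wprod c.s r = 1 := by
    intro r hr
    have hr' := (by decide +kernel : ∀ r ∈ J4Cert.L239.rels, r ∈ rels7 ++ goalsOf_E1 ++ goalsOf_E2 ++ goalsOf_A3 ++ goalsOf_L462 ++ goalsOf_K12 ++ goalsOf_K3) r hr
    simp only [List.mem_append] at hr'
    rcases hr' with (((((h | h) | h) | h) | h) | h) | h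
    · exact c.triv_rels r h
    · exact c.triv_E1 r h
    · exact c.triv_E2 r h
    · exact c.triv_A3 r h
    · exact c.triv_L462 r h
    · exact c.triv_K12 r h
    · exact c.triv_K3 r h
  exact c.triv_of_mem_subK
    (mem_of_chkGoals (c.good rfl) hR c.mem_subK J4Cert.L239.facts_ok J4Cert.L239.loops_ok g hg)
    (wprod_eq_one_of_evL ((by decide +kernel : ∀ g ∈ goalsOf_L239, evL g = List.range 24) g hg))

theorem triv_KEYS : ∀ g ∈ goalsOf_KEYS, c.Triv g := by
  intro g hg
  have hR : ∀ r ∈ J4Cert.KEYS.cert.rels, wprod c.s r = 1 := by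
    intro r hr
    have hr' := (by decide +kernel : ∀ r ∈ J4Cert.KEYS.rels, r ∈ rels7 ++ goalsOf_E1 ++ goalsOf_E2 ++ goalsOf_L462 ++ goalsOf_L239) r hr
    simp only [List.mem_append] at hr'
    rcases hr' with (((h | h) | h) | h) | h
    · exact c.triv_rels r h
    · exact c.triv_E1 r h
    · exact c.triv_E2 r h
    · exact c.triv_L462 r h
    · exact c.triv_L239 r h
  exact c.triv_of_mem_subK
    (mem_of_chkGoals (c.good rfl) hR c.mem_subK J4Cert.KEYS.facts_ok J4Cert.KEYS.loops_ok g hg)
    (wprod_eq_one_of_evL ((by decide +kernel : ∀ g ∈ goalsOf_KEYS, evL g = List.range 24) g hg))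

theorem triv_H11 : ∀ g ∈ goalsOf_H11, c.Triv g := by
  intro g hg
  have hR : ∀ r ∈ J4Cert.H11.cert.rels, wprod c.s r = 1 := by
    intro r hr
    have hr' := (by decide +kernel : ∀ r ∈ J4Cert.H11.rels, r ∈ rels7 ++ goalsOf_E1 ++ goalsOf_E2 ++ goalsOf_L462 ++ goalsOf_L239 ++ goalsOf_KEYS) r hr
    simp only [List.mem_append] at hr'
    rcases hr' with ((((h | h) | h) | h) | h) | h
    · exact c.triv_rels r h
    · exact c.triv_E1 r h
    · exact c.triv_E2 r h
    · exact c.triv_L462 r h
    · exact c.triv_L239 r h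
    · exact c.triv_KEYS r h
  exact c.triv_of_mem_subK
    (mem_of_chkGoals (c.good rfl) hR c.mem_subK J4Cert.H11.facts_ok J4Cert.H11.loops_ok g hg)
    (wprod_eq_one_of_evL ((by decide +kernel : ∀ g ∈ goalsOf_H11, evL g = List.range 24) g hg))

theorem triv_H13 : ∀ g ∈ goalsOf_H13, c.Triv g := by
  intro g hg
  have hR : ∀ r ∈ J4Cert.H13.cert.rels, wprod c.s r = 1 := by
    intro r hr
    have hr' := (by decide +kernel : ∀ r ∈ J4Cert.H13.rels, r ∈ rels7 ++ goalsOf_E1 ++ goalsOf_E2 ++ goalsOf_L462 ++ goalsOf_L239 ++ goalsOf_KEYS) r hr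
    simp only [List.mem_append] at hr'
    rcases hr' with ((((h | h) | h) | h) | h) | h
    · exact c.triv_rels r h
    · exact c.triv_E1 r h
    · exact c.triv_E2 r h
    · exact c.triv_L462 r h
    · exact c.triv_L239 r h
    · exact c.triv_KEYS r h
  exact c.triv_of_mem_subK
    (mem_of_chkGoals (c.good rfl) hR c.mem_subK J4Cert.H13.facts_ok J4Cert.H13.loops_ok g hg)
    (wprod_eq_one_of_evL ((by decide +kernel : ∀ g ∈ goalsOf_H13, evL g = List.range 24) g hg))

/-- The trio stabiliser. -/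
def subH : Subgroup G := Subgroup.closure ({c.x, wprod c.s wW} : Set G)

theorem substH_val (n : ℕ) : wprod c.s (exH n) = lett c.x (wprod c.s wW) n := by
  match n with
  | 0 => simp [exH, wprod, s, lett]
  | 1 => rfl
  | 2 =>
    show _ = (wprod c.s wW)⁻¹
    simp [exH, wW, wprod, s, lett, c.hyp.inv_x, mul_assoc]
  | k + 3 => simp [exH, wprod, lett]

theorem rels_subH : ∀ r ∈ J4Cert.HENUM.rels, wprod (lett c.x (wprod c.s wW)) r = 1 := by
  intro r hr
  rw [← wprod_subst c.s (lett c.x (wprod c.s wW)) exH c.substH_val r, s, ← wprod_red c.hyp]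
  have hr' := (by decide +kernel : ∀ r ∈ J4Cert.HENUM.rels,
    red (subst exH r) ∈ [] :: goalsOf_H0 ++ goalsOf_H11 ++ goalsOf_H13) r hr
  simp only [List.mem_append, List.mem_cons] at hr'
  rcases hr' with ((h | h) | h) | h
  · rw [h]; rfl
  · exact c.triv_H0 _ h
  · exact c.triv_H11 _ h
  · exact c.triv_H13 _ h

theorem wW_pow : wprod c.s wW ^ 4 = 1 := by
  rw [← wprod_flatten_replicate c.s wW 4, s, ← wprod_red c.hyp]
  exact c.triv_H0 _ (by decide +kernel)

theorem card_subH_le : Finite c.subH ∧ Nat.card c.subH ≤ 64512 :=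
  card_pair_le J4Cert.HENUM.covered rfl rfl rfl c.sq_x (by norm_num) c.wW_pow c.rels_subH

include c in
/-- **The presentation gives at most `|M24|` elements.** -/
theorem finite_and_card_le : Finite G ∧ Nat.card G ≤ 244823040 := by
  have hR : ∀ r ∈ J4Cert.MAIN.rels, wprod c.s r = 1 := by
    intro r hr
    have hr' := (by decide +kernel : ∀ r ∈ J4Cert.MAIN.rels,
      r ∈ rels7 ++ goalsOf_E1 ++ goalsOf_E2 ++ goalsOf_L462 ++ goalsOf_L239 ++ goalsOf_KEYS) r hr
    simp only [List.mem_append] at hr'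
    rcases hr' with ((((h | h) | h) | h) | h) | h
    · exact c.triv_rels r h
    · exact c.triv_E1 r h
    · exact c.triv_E2 r h
    · exact c.triv_L462 r h
    · exact c.triv_L239 r h
    · exact c.triv_KEYS r h
  have hS : ∀ r ∈ J4Cert.MAIN.subs, wprod c.s r ∈ c.subH := by
    simp only [show J4Cert.MAIN.subs = [[0], wW] from rfl, List.forall_mem_cons, List.not_mem_nil]
    exact ⟨Subgroup.subset_closure (by simp [wprod, s, lett]), Subgroup.subset_closure (by simp),
      fun _ h => h.elim⟩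
  have hgen : Subgroup.closure (c.s '' Set.Iio J4Cert.MAIN.table.g) = ⊤ := by
    rw [eq_top_iff, ← c.gen, Subgroup.closure_le]
    rintro _ (rfl | rfl)
    · exact Subgroup.subset_closure ⟨0, show (0 : ℕ) < 3 by norm_num, rfl⟩
    · exact Subgroup.subset_closure ⟨1, show (1 : ℕ) < 3 by norm_num, rfl⟩
  obtain ⟨h0, hle⟩ := J4Cert.MAIN.covered.index_le c.s c.subH (c.good rfl) hR hS hgen
  haveI := c.card_subH_le.1
  have hmul := c.subH.card_mul_index
  refine ⟨Nat.finite_of_card_ne_zero ?_, ?_⟩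
  · rw [← hmul]; exact Nat.mul_ne_zero Nat.card_pos.ne' h0
  · rw [← hmul]
    exact (Nat.mul_le_mul c.card_subH_le.2 hle).trans (le_of_eq rfl)

end Ctx

end CfsgLib.KnownA.J4M24
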