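import Cfsg.Agent.Lib.KnownA.J4.HENUMData

set_option autoImplicit false
set_option maxRecDepth 100000

namespace CfsgLib.KnownA.J4Cert.HENUM

open CfsgLib.InvChar.Coset CfsgLib.KnownA.CosetInv

theorem chk_facts3 : cert.chkBlocks 22 192 = true := by decide +kernel

end CfsgLib.KnownA.J4Cert.HENUM
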