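import Cfsg.Agent.Lib.KnownA.J4.HENUMData

set_option autoImplicit false
set_option maxRecDepth 100000

namespace CfsgLib.KnownA.J4Cert.HENUM

open CfsgLib.InvChar.Coset CfsgLib.KnownA.CosetInv

theorem chk_rows0 : cert.chkRows table live fin 1500 0 = true := by decide +kernel

theorem chk_rows1 : cert.chkRows table live fin 1500 1500 = true := by decide +kernel

theorem chk_rows2 : cert.chkRows table live fin 1500 3000 = true := by decide +kernel

theorem chk_rows3 : cert.chkRows table live fin 1500 4500 = true := by decide +kernel

theorem chk_rows4 : cert.chkRows table live fin 1500 6000 = true := by decide +kernel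

theorem chk_rows5 : cert.chkRows table live fin 1500 7500 = true := by decide +kernel

theorem chk_rows6 : cert.chkRows table live fin 1500 9000 = true := by decide +kernel

theorem chk_rows7 : cert.chkRows table live fin 1500 10500 = true := by decide +kernel

theorem chk_rows8 : cert.chkRows table live fin 1500 12000 = true := by decide +kernel

theorem chk_rows9 : cert.chkRows table live fin 1500 13500 = true := by decide +kernel

theorem chk_rows10 : cert.chkRows table live fin 1128 15000 = true := by decide +kernel

end CfsgLib.KnownA.J4Cert.HENUM
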