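import Cfsg.Agent.Lib.KnownA.J4.HENUMF0
import Cfsg.Agent.Lib.KnownA.J4.HENUMF1
import Cfsg.Agent.Lib.KnownA.J4.HENUMF2
import Cfsg.Agent.Lib.KnownA.J4.HENUMF3
import Cfsg.Agent.Lib.KnownA.J4.HENUMR

/-! The assembled certificate HENUM. -/

set_option autoImplicit false
set_option maxRecDepth 100000

namespace CfsgLib.KnownA.J4Cert.HENUM

open CfsgLib.InvChar.Coset CfsgLib.KnownA.CosetInv

theorem facts_ok : ∃ nb, cert.nf ≤ nb * 128 ∧ ∀ j < nb, cert.chkRun 128 (j * 128) (cert.just.get j) = true := by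
  refine ⟨214, by decide +kernel, fun j hj => ?_⟩
  rcases Nat.lt_or_ge j 64 with h0 | h0
  · obtain ⟨i, rfl⟩ : ∃ i, j = 0 + i := ⟨j - 0, by omega⟩
    exact cert.chkBlocks_get 64 0 chk_facts0 i (by omega)
  rcases Nat.lt_or_ge j 128 with h1 | h1
  · obtain ⟨i, rfl⟩ : ∃ i, j = 64 + i := ⟨j - 64, by omega⟩
    exact cert.chkBlocks_get 64 64 chk_facts1 i (by omega)
  rcases Nat.lt_or_ge j 192 with h2 | h2
  · obtain ⟨i, rfl⟩ : ∃ i, j = 128 + i := ⟨j - 128, by omega⟩
    exact cert.chkBlocks_get 64 128 chk_facts2 i (by omega)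
  rcases Nat.lt_or_ge j 214 with h3 | h3
  · obtain ⟨i, rfl⟩ : ∃ i, j = 192 + i := ⟨j - 192, by omega⟩
    exact cert.chkBlocks_get 22 192 chk_facts3 i (by omega)
  omega

theorem covered : CosetInv.Covered cert table live fin where
  hn := by decide +kernel
  ivlt := by decide +kernel
  facts := facts_ok
  rows := by
    intro i hi
    have hi : i < 16128 := hi
    rcases Nat.lt_or_ge i 1500 with h0 | h0
    · exact cert.chkRows_get 1500 0 chk_rows0 i (by omega) (by omega)
    rcases Nat.lt_or_ge i 3000 with h1 | h1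
    · exact cert.chkRows_get 1500 1500 chk_rows1 i (by omega) (by omega)
    rcases Nat.lt_or_ge i 4500 with h2 | h2
    · exact cert.chkRows_get 1500 3000 chk_rows2 i (by omega) (by omega)
    rcases Nat.lt_or_ge i 6000 with h3 | h3
    · exact cert.chkRows_get 1500 4500 chk_rows3 i (by omega) (by omega)
    rcases Nat.lt_or_ge i 7500 with h4 | h4
    · exact cert.chkRows_get 1500 6000 chk_rows4 i (by omega) (by omega)
    rcases Nat.lt_or_ge i 9000 with h5 | h5
    · exact cert.chkRows_get 1500 7500 chk_rows5 i (by omega) (by omega)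
    rcases Nat.lt_or_ge i 10500 with h6 | h6
    · exact cert.chkRows_get 1500 9000 chk_rows6 i (by omega) (by omega)
    rcases Nat.lt_or_ge i 12000 with h7 | h7
    · exact cert.chkRows_get 1500 10500 chk_rows7 i (by omega) (by omega)
    rcases Nat.lt_or_ge i 13500 with h8 | h8
    · exact cert.chkRows_get 1500 12000 chk_rows8 i (by omega) (by omega)
    rcases Nat.lt_or_ge i 15000 with h9 | h9
    · exact cert.chkRows_get 1500 13500 chk_rows9 i (by omega) (by omega)
    rcases Nat.lt_or_ge i 16128 with h10 | h10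
    · exact cert.chkRows_get 1128 15000 chk_rows10 i (by omega) (by omega)
    omega
  root := by decide +kernel

end CfsgLib.KnownA.J4Cert.HENUM
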