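import Cfsg.Agent.Lib.KnownA.J4.BitMat
import Cfsg.Agent.Lib.KnownA.J4.MatData
import Cfsg.Prelude.Def_Spor_J4

/-!
# A nontrivial representation of the presented J4

Three 112-dimensional matrices over the field of two elements satisfy the twelve relators.
-/

set_option autoImplicit false
set_option maxRecDepth 100000
set_option maxHeartbeats 1000000

namespace CfsgLib.KnownA.J4Mat

open CfsgLib.KnownA.BitMat

theorem ok_0_0 : m0.map (app m0) = m4 := by decide +kernel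
theorem ok_0_1 : m1.map (app m0) = m5 := by decide +kernel
theorem ok_0_2 : m2.map (app m0) = m12 := by decide +kernel
theorem ok_0_20 : m20.map (app m0) = m21 := by decide +kernel
theorem ok_1_0 : m0.map (app m1) = m18 := by decide +kernel
theorem ok_1_1 : m1.map (app m1) = m2 := by decide +kernel
theorem ok_1_2 : m2.map (app m1) = m4 := by decide +kernel
theorem ok_1_52 : m52.map (app m1) = m53 := by decide +kernel
theorem ok_3_0 : m0.map (app m3) = m44 := by decide +kernel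
theorem ok_3_3 : m3.map (app m3) = m4 := by decide +kernel
theorem ok_3_42 : m42.map (app m3) = m43 := by decide +kernel
theorem ok_5_0 : m0.map (app m5) = m26 := by decide +kernel
theorem ok_5_5 : m5.map (app m5) = m6 := by decide +kernel
theorem ok_5_6 : m6.map (app m5) = m7 := by decide +kernel
theorem ok_5_29 : m29.map (app m5) = m30 := by decide +kernel
theorem ok_6_0 : m0.map (app m6) = m32 := by decide +kernel
theorem ok_6_7 : m7.map (app m6) = m8 := by decide +kernel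
theorem ok_7_1 : m1.map (app m7) = m33 := by decide +kernel
theorem ok_7_7 : m7.map (app m7) = m9 := by decide +kernel
theorem ok_8_9 : m9.map (app m8) = m10 := by decide +kernel
theorem ok_9_9 : m9.map (app m9) = m11 := by decide +kernel
theorem ok_10_11 : m11.map (app m10) = m4 := by decide +kernel
theorem ok_12_0 : m0.map (app m12) = m13 := by decide +kernel
theorem ok_12_12 : m12.map (app m12) = m21 := by decide +kernel
theorem ok_13_1 : m1.map (app m13) = m14 := by decide +kernel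
theorem ok_14_14 : m14.map (app m14) = m15 := by decide +kernel
theorem ok_14_15 : m15.map (app m14) = m16 := by decide +kernel
theorem ok_16_16 : m16.map (app m16) = m17 := by decide +kernel
theorem ok_17_17 : m17.map (app m17) = m4 := by decide +kernel
theorem ok_18_1 : m1.map (app m18) = m19 := by decide +kernel
theorem ok_18_2 : m2.map (app m18) = m45 := by decide +kernel
theorem ok_19_0 : m0.map (app m19) = m55 := by decide +kernel
theorem ok_19_21 : m21.map (app m19) = m40 := by decide +kernel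
theorem ok_21_0 : m0.map (app m21) = m22 := by decide +kernel
theorem ok_22_19 : m19.map (app m22) = m23 := by decide +kernel
theorem ok_23_23 : m23.map (app m23) = m24 := by decide +kernel
theorem ok_23_24 : m24.map (app m23) = m25 := by decide +kernel
theorem ok_24_25 : m25.map (app m24) = m4 := by decide +kernel
theorem ok_26_1 : m1.map (app m26) = m6 := by decide +kernel
theorem ok_26_2 : m2.map (app m26) = m27 := by decide +kernel
theorem ok_27_0 : m0.map (app m27) = m36 := by decide +kernel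
theorem ok_27_27 : m27.map (app m27) = m28 := by decide +kernel
theorem ok_27_28 : m28.map (app m27) = m29 := by decide +kernel
theorem ok_28_3 : m3.map (app m28) = m51 := by decide +kernel
theorem ok_30_30 : m30.map (app m30) = m31 := by decide +kernel
theorem ok_31_31 : m31.map (app m31) = m4 := by decide +kernel
theorem ok_32_2 : m2.map (app m32) = m33 := by decide +kernel
theorem ok_33_9 : m9.map (app m33) = m62 := by decide +kernel
theorem ok_33_33 : m33.map (app m33) = m34 := by decide +kernel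
theorem ok_33_34 : m34.map (app m33) = m35 := by decide +kernel
theorem ok_35_39 : m39.map (app m35) = m4 := by decide +kernel
theorem ok_36_2 : m2.map (app m36) = m37 := by decide +kernel
theorem ok_37_37 : m37.map (app m37) = m38 := by decide +kernel
theorem ok_37_38 : m38.map (app m37) = m39 := by decide +kernel
theorem ok_40_7 : m7.map (app m40) = m41 := by decide +kernel
theorem ok_42_41 : m41.map (app m42) = m4 := by decide +kernel
theorem ok_43_3 : m3.map (app m43) = m42 := by decide +kernel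
theorem ok_44_3 : m3.map (app m44) = m0 := by decide +kernel
theorem ok_45_0 : m0.map (app m45) = m46 := by decide +kernel
theorem ok_46_1 : m1.map (app m46) = m47 := by decide +kernel
theorem ok_47_0 : m0.map (app m47) = m48 := by decide +kernel
theorem ok_48_2 : m2.map (app m48) = m49 := by decide +kernel
theorem ok_49_0 : m0.map (app m49) = m50 := by decide +kernel
theorem ok_51_50 : m50.map (app m51) = m52 := by decide +kernel
theorem ok_53_53 : m53.map (app m53) = m54 := by decide +kernel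
theorem ok_53_54 : m54.map (app m53) = m4 := by decide +kernel
theorem ok_55_1 : m1.map (app m55) = m56 := by decide +kernel
theorem ok_56_0 : m0.map (app m56) = m57 := by decide +kernel
theorem ok_57_1 : m1.map (app m57) = m58 := by decide +kernel
theorem ok_58_58 : m58.map (app m58) = m59 := by decide +kernel
theorem ok_58_59 : m59.map (app m58) = m60 := by decide +kernel
theorem ok_60_3 : m3.map (app m60) = m61 := by decide +kernel
theorem ok_61_66 : m66.map (app m61) = m67 := by decide +kernel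
theorem ok_62_1 : m1.map (app m62) = m63 := by decide +kernel
theorem ok_64_3 : m3.map (app m64) = m65 := by decide +kernel
theorem ok_65_63 : m63.map (app m65) = m66 := by decide +kernel
theorem ok_67_67 : m67.map (app m67) = m4 := by decide +kernel
theorem inv_0_0 : m0.map (app m0) = idRows 0 112 := by decide +kernel
theorem inv_1_2 : m1.map (app m2) = idRows 0 112 := by decide +kernel
theorem inv_3_3 : m3.map (app m3) = idRows 0 112 := by decide +kernel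
theorem inv_19_20 : m19.map (app m20) = idRows 0 112 := by decide +kernel
theorem inv_41_42 : m41.map (app m42) = idRows 0 112 := by decide +kernel
theorem inv_50_28 : m50.map (app m28) = idRows 0 112 := by decide +kernel
theorem inv_63_64 : m63.map (app m64) = idRows 0 112 := by decide +kernel
theorem id_eq : m4 = idRows 0 112 := by decide +kernel

/-- The image of `x`. -/
noncomputable def gx : Equiv.Perm (Vec 112) :=
  mkPerm 112 m0 m0 (by decide +kernel) (by decide +kernel) (by decide +kernel) (by decide +kernel)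
/-- The image of `y`. -/
noncomputable def gy : Equiv.Perm (Vec 112) :=
  mkPerm 112 m1 m2 (by decide +kernel) (by decide +kernel) (by decide +kernel) (by decide +kernel)
/-- The image of `t`. -/
noncomputable def gt : Equiv.Perm (Vec 112) :=
  mkPerm 112 m3 m3 (by decide +kernel) (by decide +kernel) (by decide +kernel) (by decide +kernel)

theorem rx : Rep gx m0 := rep_mkPerm
theorem ry : Rep gy m1 := rep_mkPerm
theorem rt : Rep gt m3 := rep_mkPerm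

theorem rel_0 : gx ^ 2 = 1 := Rep.eq_one (id_eq ▸ (((((rx).pow_one)).pow_add (((rx).pow_one)) ok_0_0 (rfl : 1 + 1 = 2)) : Rep (gx ^ 2) m4))

theorem rel_1 : gy ^ 3 = 1 := Rep.eq_one (id_eq ▸ (((((ry).pow_one)).pow_add (((((ry).pow_one)).pow_add (((ry).pow_one)) ok_1_1 (rfl : 1 + 1 = 2))) ok_1_2 (rfl : 1 + 2 = 3)) : Rep (gy ^ 3) m4))

theorem rel_2 : (gx * gy) ^ 23 = 1 := Rep.eq_one (id_eq ▸ (((((((((((((rx).mul (ry) ok_0_1)).pow_one)).pow_add (((((rx).mul (ry) ok_0_1)).pow_one)) ok_5_5 (rfl : 1 + 1 = 2))).pow_add (((((((rx).mul (ry) ok_0_1)).pow_one)).pow_add (((((((rx).mul (ry) ok_0_1)).pow_one)).pow_add (((((rx).mul (ry) ok_0_1)).pow_one)) ok_5_5 (rfl : 1 + 1 = 2))) ok_5_6 (rfl : 1 + 2 = 3))) ok_6_7 (rfl : 2 + 3 = 5))).pow_add (((((((((rx).mul (ry) ok_0_1)).pow_one)).pow_add (((((((rx).mul (ry) ok_0_1)).pow_one)).pow_add (((((rx).mul (ry) ok_0_1)).pow_one)) ok_5_5 (rfl : 1 + 1 = 2)))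 ok_5_6 (rfl : 1 + 2 = 3))).pow_add (((((((rx).mul (ry) ok_0_1)).pow_one)).pow_add (((((((rx).mul (ry) ok_0_1)).pow_one)).pow_add (((((rx).mul (ry) ok_0_1)).pow_one)) ok_5_5 (rfl : 1 + 1 = 2))) ok_5_6 (rfl : 1 + 2 = 3))) ok_7_7 (rfl : 3 + 3 = 6))) ok_8_9 (rfl : 5 + 6 = 11))).pow_add (((((((((((rx).mul (ry) ok_0_1)).pow_one)).pow_add (((((((rx).mul (ry) ok_0_1)).pow_one)).pow_add (((((rx).mul (ry) ok_0_1)).pow_one)) ok_5_5 (rfl : 1 + 1 = 2))) ok_5_6 (rfl : 1 + 2 = 3))).pow_add (((((((rx).mul (ry) ok_0_1)).pow_one)).pow_add (((((((rx).mul (ry) ok_0_1)).pow_one)).pow_add (((((rx).mul (ry) ok_0_1)).pow_one)) ok_5_5 (rfl : 1 + 1 = 2))) ok_5_6 (rfl : 1 + 2 = 3))) ok_7_7 (rfl : 3 + 3 = 6))).pow_add (((((((((rx).mul (ry) ok_0_1)).pow_one)).pow_add (((((((rx).mul (ry) ok_0_1)).pow_one)).pow_add (((((rx).mul (ry) ok_0_1)).pow_one)) ok_5_5 (rfl : 1 + 1 = 2))) ok_5_6 (rfl : 1 + 2 = 3))).pow_add (((((((rx).mul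 (ry) ok_0_1)).pow_one)).pow_add (((((((rx).mul (ry) ok_0_1)).pow_one)).pow_add (((((rx).mul (ry) ok_0_1)).pow_one)) ok_5_5 (rfl : 1 + 1 = 2))) ok_5_6 (rfl : 1 + 2 = 3))) ok_7_7 (rfl : 3 + 3 = 6))) ok_9_9 (rfl : 6 + 6 = 12))) ok_10_11 (rfl : 11 + 12 = 23)) : Rep ((gx * gy) ^ 23) m4))

theorem rel_3 : (gx⁻¹ * gy⁻¹ * gx * gy) ^ 12 = 1 := Rep.eq_one (id_eq ▸ (((((((((((((((((rx).inv inv_0_0)).mul (((ry).inv inv_1_2)) ok_0_2)).mul (rx) ok_12_0)).mul (ry) ok_13_1)).pow_one)).pow_add (((((((((((((rx).inv inv_0_0)).mul (((ry).inv inv_1_2)) ok_0_2)).mul (rx) ok_12_0)).mul (ry) ok_13_1)).pow_one)).pow_add (((((((((((rx).inv inv_0_0)).mul (((ry).inv inv_1_2)) ok_0_2)).mul (rx) ok_12_0)).mul (ry) ok_13_1)).pow_one)) ok_14_14 (rfl : 1 + 1 = 2))) ok_14_15 (rfl : 1 + 2 = 3))).pow_add (((((((((((((rx).inv inv_0_0)).mul (((ry).inv inv_1_2)) ok_0_2)).mul (rx) ok_12_0)).mul (ry) ok_13_1)).pow_one)).pow_add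 (((((((((((((rx).inv inv_0_0)).mul (((ry).inv inv_1_2)) ok_0_2)).mul (rx) ok_12_0)).mul (ry) ok_13_1)).pow_one)).pow_add (((((((((((rx).inv inv_0_0)).mul (((ry).inv inv_1_2)) ok_0_2)).mul (rx) ok_12_0)).mul (ry) ok_13_1)).pow_one)) ok_14_14 (rfl : 1 + 1 = 2))) ok_14_15 (rfl : 1 + 2 = 3))) ok_16_16 (rfl : 3 + 3 = 6))).pow_add (((((((((((((((rx).inv inv_0_0)).mul (((ry).inv inv_1_2)) ok_0_2)).mul (rx) ok_12_0)).mul (ry) ok_13_1)).pow_one)).pow_add (((((((((((((rx).inv inv_0_0)).mul (((ry).inv inv_1_2)) ok_0_2)).mul (rx) ok_12_0)).mul (ry) ok_13_1)).pow_one)).pow_add (((((((((((rx).inv inv_0_0)).mul (((ry).inv inv_1_2)) ok_0_2)).mul (rx) ok_12_0)).mul (ry) ok_13_1)).pow_one)) ok_14_14 (rfl : 1 + 1 = 2))) ok_14_15 (rfl : 1 + 2 = 3))).pow_add (((((((((((((rx).inv inv_0_0)).mul (((ry).inv inv_1_2)) ok_0_2)).mul (rx) ok_12_0)).mul (ry) ok_13_1)).pow_one)).pow_add (((((((((((((rx).inv inv_0_0)).mul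 (((ry).inv inv_1_2)) ok_0_2)).mul (rx) ok_12_0)).mul (ry) ok_13_1)).pow_one)).pow_add (((((((((((rx).inv inv_0_0)).mul (((ry).inv inv_1_2)) ok_0_2)).mul (rx) ok_12_0)).mul (ry) ok_13_1)).pow_one)) ok_14_14 (rfl : 1 + 1 = 2))) ok_14_15 (rfl : 1 + 2 = 3))) ok_16_16 (rfl : 3 + 3 = 6))) ok_17_17 (rfl : 6 + 6 = 12)) : Rep ((gx⁻¹ * gy⁻¹ * gx * gy) ^ 12) m4))

theorem rel_4 : (gx⁻¹ * (gy * gx * gy)⁻¹ * gx * (gy * gx * gy)) ^ 5 = 1 := Rep.eq_one (id_eq ▸ (((((((((((((((rx).inv inv_0_0)).mul (((((((ry).mul (rx) ok_1_0)).mul (ry) ok_18_1)).inv inv_19_20)) ok_0_20)).mul (rx) ok_21_0)).mul (((((ry).mul (rx) ok_1_0)).mul (ry) ok_18_1)) ok_22_19)).pow_one)).pow_add (((((((((((rx).inv inv_0_0)).mul (((((((ry).mul (rx) ok_1_0)).mul (ry) ok_18_1)).inv inv_19_20)) ok_0_20)).mul (rx) ok_21_0)).mul (((((ry).mul (rx) ok_1_0)).mul (ry) ok_18_1)) ok_22_19)).pow_one)) ok_23_23 (rfl : 1 + 1 = 2))).pow_add (((((((((((((rx).inv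 inv_0_0)).mul (((((((ry).mul (rx) ok_1_0)).mul (ry) ok_18_1)).inv inv_19_20)) ok_0_20)).mul (rx) ok_21_0)).mul (((((ry).mul (rx) ok_1_0)).mul (ry) ok_18_1)) ok_22_19)).pow_one)).pow_add (((((((((((((rx).inv inv_0_0)).mul (((((((ry).mul (rx) ok_1_0)).mul (ry) ok_18_1)).inv inv_19_20)) ok_0_20)).mul (rx) ok_21_0)).mul (((((ry).mul (rx) ok_1_0)).mul (ry) ok_18_1)) ok_22_19)).pow_one)).pow_add (((((((((((rx).inv inv_0_0)).mul (((((((ry).mul (rx) ok_1_0)).mul (ry) ok_18_1)).inv inv_19_20)) ok_0_20)).mul (rx) ok_21_0)).mul (((((ry).mul (rx) ok_1_0)).mul (ry) ok_18_1)) ok_22_19)).pow_one)) ok_23_23 (rfl : 1 + 1 = 2))) ok_23_24 (rfl : 1 + 2 = 3))) ok_24_25 (rfl : 2 + 3 = 5)) : Rep ((gx⁻¹ * (gy * gx * gy)⁻¹ * gx * (gy * gx * gy)) ^ 5) m4))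

theorem rel_5 : (gx * gy * ((gx * gy * gx * (gy⁻¹)) ^ 3)) ^ 4 = 1 := Rep.eq_one (id_eq ▸ (((((((((((rx).mul (ry) ok_0_1)).mul (((((((((((rx).mul (ry) ok_0_1)).mul (rx) ok_5_0)).mul (((ry).inv inv_1_2)) ok_26_2)).pow_one)).pow_add (((((((((((rx).mul (ry) ok_0_1)).mul (rx) ok_5_0)).mul (((ry).inv inv_1_2)) ok_26_2)).pow_one)).pow_add (((((((((rx).mul (ry) ok_0_1)).mul (rx) ok_5_0)).mul (((ry).inv inv_1_2)) ok_26_2)).pow_one)) ok_27_27 (rfl : 1 + 1 = 2))) ok_27_28 (rfl : 1 + 2 = 3))) ok_5_29)).pow_one)).pow_add (((((((rx).mul (ry) ok_0_1)).mul (((((((((((rx).mul (ry) ok_0_1)).mul (rx) ok_5_0)).mul (((ry).inv inv_1_2)) ok_26_2)).pow_one)).pow_add (((((((((((rx).mul (ry) ok_0_1)).mul (rx) ok_5_0)).mul (((ry).inv inv_1_2)) ok_26_2)).pow_one)).pow_add (((((((((rx).mul (ry) ok_0_1)).mul (rx) ok_5_0)).mul (((ry).inv inv_1_2)) ok_26_2)).pow_one)) ok_27_27 (rfl : 1 + 1 = 2))) ok_27_28 (rfl : 1 +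 2 = 3))) ok_5_29)).pow_one)) ok_30_30 (rfl : 1 + 1 = 2))).pow_add (((((((((rx).mul (ry) ok_0_1)).mul (((((((((((rx).mul (ry) ok_0_1)).mul (rx) ok_5_0)).mul (((ry).inv inv_1_2)) ok_26_2)).pow_one)).pow_add (((((((((((rx).mul (ry) ok_0_1)).mul (rx) ok_5_0)).mul (((ry).inv inv_1_2)) ok_26_2)).pow_one)).pow_add (((((((((rx).mul (ry) ok_0_1)).mul (rx) ok_5_0)).mul (((ry).inv inv_1_2)) ok_26_2)).pow_one)) ok_27_27 (rfl : 1 + 1 = 2))) ok_27_28 (rfl : 1 + 2 = 3))) ok_5_29)).pow_one)).pow_add (((((((rx).mul (ry) ok_0_1)).mul (((((((((((rx).mul (ry) ok_0_1)).mul (rx) ok_5_0)).mul (((ry).inv inv_1_2)) ok_26_2)).pow_one)).pow_add (((((((((((rx).mul (ry) ok_0_1)).mul (rx) ok_5_0)).mul (((ry).inv inv_1_2)) ok_26_2)).pow_one)).pow_add (((((((((rx).mul (ry) ok_0_1)).mul (rx) ok_5_0)).mul (((ry).inv inv_1_2)) ok_26_2)).pow_one)) ok_27_27 (rfl : 1 + 1 = 2))) ok_27_28 (rfl : 1 + 2 = 3))) ok_5_29)).pow_one))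 ok_30_30 (rfl : 1 + 1 = 2))) ok_31_31 (rfl : 2 + 2 = 4)) : Rep ((gx * gy * ((gx * gy * gx * (gy⁻¹)) ^ 3)) ^ 4) m4))

theorem rel_6 : ((gx * gy * gx * gy * gx * (gy⁻¹)) ^ 3) * ((gx * gy * gx * (gy⁻¹) * gx * (gy⁻¹)) ^ 3) = 1 := Rep.eq_one (id_eq ▸ (((((((((((((((((rx).mul (ry) ok_0_1)).mul (rx) ok_5_0)).mul (ry) ok_26_1)).mul (rx) ok_6_0)).mul (((ry).inv inv_1_2)) ok_32_2)).pow_one)).pow_add (((((((((((((((rx).mul (ry) ok_0_1)).mul (rx) ok_5_0)).mul (ry) ok_26_1)).mul (rx) ok_6_0)).mul (((ry).inv inv_1_2)) ok_32_2)).pow_one)).pow_add (((((((((((((rx).mul (ry) ok_0_1)).mul (rx) ok_5_0)).mul (ry) ok_26_1)).mul (rx) ok_6_0)).mul (((ry).inv inv_1_2)) ok_32_2)).pow_one)) ok_33_33 (rfl : 1 + 1 = 2))) ok_33_34 (rfl : 1 + 2 = 3))).mul (((((((((((((((rx).mul (ry) ok_0_1)).mul (rx) ok_5_0)).mul (((ry).inv inv_1_2)) ok_26_2)).mul (rx) ok_27_0)).mul (((ry).inv inv_1_2)) ok_36_2)).pow_one)).pow_add (((((((((((((((rx).mul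 (ry) ok_0_1)).mul (rx) ok_5_0)).mul (((ry).inv inv_1_2)) ok_26_2)).mul (rx) ok_27_0)).mul (((ry).inv inv_1_2)) ok_36_2)).pow_one)).pow_add (((((((((((((rx).mul (ry) ok_0_1)).mul (rx) ok_5_0)).mul (((ry).inv inv_1_2)) ok_26_2)).mul (rx) ok_27_0)).mul (((ry).inv inv_1_2)) ok_36_2)).pow_one)) ok_37_37 (rfl : 1 + 1 = 2))) ok_37_38 (rfl : 1 + 2 = 3))) ok_35_39) : Rep (((gx * gy * gx * gy * gx * (gy⁻¹)) ^ 3) * ((gx * gy * gx * (gy⁻¹) * gx * (gy⁻¹)) ^ 3)) m4))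

theorem rel_7 : gt ^ 2 = 1 := Rep.eq_one (id_eq ▸ (((((rt).pow_one)).pow_add (((rt).pow_one)) ok_3_3 (rfl : 1 + 1 = 2)) : Rep (gt ^ 2) m4))

theorem rel_8 : gt⁻¹ * (gy * gx * gy * ((gx * (gy⁻¹)) ^ 2) * ((gx * gy) ^ 3))⁻¹ * gt * (gy * gx * gy * ((gx * (gy⁻¹)) ^ 2) * ((gx * gy) ^ 3)) = 1 := Rep.eq_one (id_eq ▸ (((((((((rt).inv inv_3_3)).mul (((((((((((ry).mul (rx) ok_1_0)).mul (ry) ok_18_1)).mul (((((((rx).mul (((ry).inv inv_1_2)) ok_0_2)).pow_one)).pow_add (((((rx).mul (((ry).inv inv_1_2)) ok_0_2)).pow_one)) ok_12_12 (rfl : 1 + 1 = 2))) ok_19_21)).mul (((((((rx).mul (ry) ok_0_1)).pow_one)).pow_add (((((((rx).mul (ry) ok_0_1)).pow_one)).pow_add (((((rx).mul (ry) ok_0_1)).pow_one)) ok_5_5 (rfl : 1 + 1 = 2))) ok_5_6 (rfl : 1 + 2 = 3))) ok_40_7)).inv inv_41_42)) ok_3_42)).mul (rt) ok_43_3)).mul (((((((((ry).mul (rx) ok_1_0)).mul (ry) ok_18_1)).mul (((((((rx).mul (((ry).inv inv_1_2)) ok_0_2)).pow_one)).pow_add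 (((((rx).mul (((ry).inv inv_1_2)) ok_0_2)).pow_one)) ok_12_12 (rfl : 1 + 1 = 2))) ok_19_21)).mul (((((((rx).mul (ry) ok_0_1)).pow_one)).pow_add (((((((rx).mul (ry) ok_0_1)).pow_one)).pow_add (((((rx).mul (ry) ok_0_1)).pow_one)) ok_5_5 (rfl : 1 + 1 = 2))) ok_5_6 (rfl : 1 + 2 = 3))) ok_40_7)) ok_42_41) : Rep (gt⁻¹ * (gy * gx * gy * ((gx * (gy⁻¹)) ^ 2) * ((gx * gy) ^ 3))⁻¹ * gt * (gy * gx * gy * ((gx * (gy⁻¹)) ^ 2) * ((gx * gy) ^ 3))) m4))

theorem rel_9 : gt⁻¹ * gx⁻¹ * gt * gx = 1 := Rep.eq_one (id_eq ▸ (((((((((rt).inv inv_3_3)).mul (((rx).inv inv_0_0)) ok_3_0)).mul (rt) ok_44_3)).mul (rx) ok_0_0) : Rep (gt⁻¹ * gx⁻¹ * gt * gx) m4))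

theorem rel_10 : (gy * ((gy * gx * (gy⁻¹) * gx * gy * gx * (gy⁻¹) * gx)⁻¹ * gt * (gy * gx * (gy⁻¹) * gx * gy * gx * (gy⁻¹) * gx))) ^ 3 = 1 := Rep.eq_one (id_eq ▸ (((((((ry).mul (((((((((((((((((((((ry).mul (rx) ok_1_0)).mul (((ry).inv inv_1_2)) ok_18_2)).mul (rx) ok_45_0)).mul (ry) ok_46_1)).mul (rx) ok_47_0)).mul (((ry).inv inv_1_2)) ok_48_2)).mul (rx) ok_49_0)).inv inv_50_28)).mul (rt) ok_28_3)).mul (((((((((((((((ry).mul (rx) ok_1_0)).mul (((ry).inv inv_1_2)) ok_18_2)).mul (rx) ok_45_0)).mul (ry) ok_46_1)).mul (rx) ok_47_0)).mul (((ry).inv inv_1_2)) ok_48_2)).mul (rx) ok_49_0)) ok_51_50)) ok_1_52)).pow_one)).pow_add (((((((ry).mul (((((((((((((((((((((ry).mul (rx) ok_1_0)).mul (((ry).inv inv_1_2)) ok_18_2)).mul (rx) ok_45_0)).mul (ry) ok_46_1)).mul (rx) ok_47_0)).mul (((ry).inv inv_1_2)) ok_48_2)).mul (rx) ok_49_0)).inv inv_50_28)).mul (rt) ok_28_3)).mul (((((((((((((((ry).mul (rx)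 ok_1_0)).mul (((ry).inv inv_1_2)) ok_18_2)).mul (rx) ok_45_0)).mul (ry) ok_46_1)).mul (rx) ok_47_0)).mul (((ry).inv inv_1_2)) ok_48_2)).mul (rx) ok_49_0)) ok_51_50)) ok_1_52)).pow_one)).pow_add (((((ry).mul (((((((((((((((((((((ry).mul (rx) ok_1_0)).mul (((ry).inv inv_1_2)) ok_18_2)).mul (rx) ok_45_0)).mul (ry) ok_46_1)).mul (rx) ok_47_0)).mul (((ry).inv inv_1_2)) ok_48_2)).mul (rx) ok_49_0)).inv inv_50_28)).mul (rt) ok_28_3)).mul (((((((((((((((ry).mul (rx) ok_1_0)).mul (((ry).inv inv_1_2)) ok_18_2)).mul (rx) ok_45_0)).mul (ry) ok_46_1)).mul (rx) ok_47_0)).mul (((ry).inv inv_1_2)) ok_48_2)).mul (rx) ok_49_0)) ok_51_50)) ok_1_52)).pow_one)) ok_53_53 (rfl : 1 + 1 = 2))) ok_53_54 (rfl : 1 + 2 = 3)) : Rep ((gy * ((gy * gx * (gy⁻¹) * gx * gy * gx * (gy⁻¹) * gx)⁻¹ * gt * (gy * gx * (gy⁻¹) * gx * gy * gx * (gy⁻¹) * gx))) ^ 3) m4))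

theorem rel_11 : (((gy * gx * gy * gx * gy * gx * gy) ^ 3) * gt * ((((gx * gy) ^ 3) * gy * ((gx * gy) ^ 6) * gy)⁻¹ * gt * (((gx * gy) ^ 3) * gy * ((gx * gy) ^ 6) * gy))) ^ 2 = 1 := Rep.eq_one (id_eq ▸ (((((((((((((((((((((((((ry).mul (rx) ok_1_0)).mul (ry) ok_18_1)).mul (rx) ok_19_0)).mul (ry) ok_55_1)).mul (rx) ok_56_0)).mul (ry) ok_57_1)).pow_one)).pow_add (((((((((((((((((ry).mul (rx) ok_1_0)).mul (ry) ok_18_1)).mul (rx) ok_19_0)).mul (ry) ok_55_1)).mul (rx) ok_56_0)).mul (ry) ok_57_1)).pow_one)).pow_add (((((((((((((((ry).mul (rx) ok_1_0)).mul (ry) ok_18_1)).mul (rx) ok_19_0)).mul (ry) ok_55_1)).mul (rx) ok_56_0)).mul (ry) ok_57_1)).pow_one)) ok_58_58 (rfl : 1 + 1 = 2))) ok_58_59 (rfl : 1 + 2 = 3))).mul (rt) ok_60_3)).mul (((((((((((((((((((rx).mul (ry) ok_0_1)).pow_one)).pow_add (((((((rx).mul (ry) ok_0_1)).pow_one)).pow_add (((((rx).mul (ry) ok_0_1)).pow_one)) ok_5_5 (rfl : 1 +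 1 = 2))) ok_5_6 (rfl : 1 + 2 = 3))).mul (ry) ok_7_1)).mul (((((((((rx).mul (ry) ok_0_1)).pow_one)).pow_add (((((((rx).mul (ry) ok_0_1)).pow_one)).pow_add (((((rx).mul (ry) ok_0_1)).pow_one)) ok_5_5 (rfl : 1 + 1 = 2))) ok_5_6 (rfl : 1 + 2 = 3))).pow_add (((((((rx).mul (ry) ok_0_1)).pow_one)).pow_add (((((((rx).mul (ry) ok_0_1)).pow_one)).pow_add (((((rx).mul (ry) ok_0_1)).pow_one)) ok_5_5 (rfl : 1 + 1 = 2))) ok_5_6 (rfl : 1 + 2 = 3))) ok_7_7 (rfl : 3 + 3 = 6))) ok_33_9)).mul (ry) ok_62_1)).inv inv_63_64)).mul (rt) ok_64_3)).mul (((((((((((((rx).mul (ry) ok_0_1)).pow_one)).pow_add (((((((rx).mul (ry) ok_0_1)).pow_one)).pow_add (((((rx).mul (ry) ok_0_1)).pow_one)) ok_5_5 (rfl : 1 + 1 = 2))) ok_5_6 (rfl : 1 + 2 = 3))).mul (ry) ok_7_1)).mul (((((((((rx).mul (ry) ok_0_1)).pow_one)).pow_add (((((((rx).mul (ry) ok_0_1)).pow_one)).pow_add (((((rx).mul (ry) ok_0_1)).pow_one)) ok_5_5 (rfl : 1 + 1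 = 2))) ok_5_6 (rfl : 1 + 2 = 3))).pow_add (((((((rx).mul (ry) ok_0_1)).pow_one)).pow_add (((((((rx).mul (ry) ok_0_1)).pow_one)).pow_add (((((rx).mul (ry) ok_0_1)).pow_one)) ok_5_5 (rfl : 1 + 1 = 2))) ok_5_6 (rfl : 1 + 2 = 3))) ok_7_7 (rfl : 3 + 3 = 6))) ok_33_9)).mul (ry) ok_62_1)) ok_65_63)) ok_61_66)).pow_one)).pow_add (((((((((((((((((((((((ry).mul (rx) ok_1_0)).mul (ry) ok_18_1)).mul (rx) ok_19_0)).mul (ry) ok_55_1)).mul (rx) ok_56_0)).mul (ry) ok_57_1)).pow_one)).pow_add (((((((((((((((((ry).mul (rx) ok_1_0)).mul (ry) ok_18_1)).mul (rx) ok_19_0)).mul (ry) ok_55_1)).mul (rx) ok_56_0)).mul (ry) ok_57_1)).pow_one)).pow_add (((((((((((((((ry).mul (rx) ok_1_0)).mul (ry) ok_18_1)).mul (rx) ok_19_0)).mul (ry) ok_55_1)).mul (rx) ok_56_0)).mul (ry) ok_57_1)).pow_one)) ok_58_58 (rfl : 1 + 1 = 2))) ok_58_59 (rfl : 1 + 2 = 3))).mul (rt) ok_60_3)).mul (((((((((((((((((((rx).mul (ry) ok_0_1)).pow_one)).pow_add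 (((((((rx).mul (ry) ok_0_1)).pow_one)).pow_add (((((rx).mul (ry) ok_0_1)).pow_one)) ok_5_5 (rfl : 1 + 1 = 2))) ok_5_6 (rfl : 1 + 2 = 3))).mul (ry) ok_7_1)).mul (((((((((rx).mul (ry) ok_0_1)).pow_one)).pow_add (((((((rx).mul (ry) ok_0_1)).pow_one)).pow_add (((((rx).mul (ry) ok_0_1)).pow_one)) ok_5_5 (rfl : 1 + 1 = 2))) ok_5_6 (rfl : 1 + 2 = 3))).pow_add (((((((rx).mul (ry) ok_0_1)).pow_one)).pow_add (((((((rx).mul (ry) ok_0_1)).pow_one)).pow_add (((((rx).mul (ry) ok_0_1)).pow_one)) ok_5_5 (rfl : 1 + 1 = 2))) ok_5_6 (rfl : 1 + 2 = 3))) ok_7_7 (rfl : 3 + 3 = 6))) ok_33_9)).mul (ry) ok_62_1)).inv inv_63_64)).mul (rt) ok_64_3)).mul (((((((((((((rx).mul (ry) ok_0_1)).pow_one)).pow_add (((((((rx).mul (ry) ok_0_1)).pow_one)).pow_add (((((rx).mul (ry) ok_0_1)).pow_one)) ok_5_5 (rfl : 1 + 1 = 2))) ok_5_6 (rfl : 1 + 2 = 3))).mul (ry) ok_7_1)).mul (((((((((rx).mul (ry) ok_0_1)).pow_one)).pow_add (((((((rx).mul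 (ry) ok_0_1)).pow_one)).pow_add (((((rx).mul (ry) ok_0_1)).pow_one)) ok_5_5 (rfl : 1 + 1 = 2))) ok_5_6 (rfl : 1 + 2 = 3))).pow_add (((((((rx).mul (ry) ok_0_1)).pow_one)).pow_add (((((((rx).mul (ry) ok_0_1)).pow_one)).pow_add (((((rx).mul (ry) ok_0_1)).pow_one)) ok_5_5 (rfl : 1 + 1 = 2))) ok_5_6 (rfl : 1 + 2 = 3))) ok_7_7 (rfl : 3 + 3 = 6))) ok_33_9)).mul (ry) ok_62_1)) ok_65_63)) ok_61_66)).pow_one)) ok_67_67 (rfl : 1 + 1 = 2)) : Rep ((((gy * gx * gy * gx * gy * gx * gy) ^ 3) * gt * ((((gx * gy) ^ 3) * gy * ((gx * gy) ^ 6) * gy)⁻¹ * gt * (((gx * gy) ^ 3) * gy * ((gx * gy) ^ 6) * gy))) ^ 2) m4))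

/-- The image of a generator. -/
noncomputable def gen : Cfsg.Spor.J4.Gen → Equiv.Perm (Vec 112)
  | .x => gx
  | .y => gy
  | .t => gt

theorem rels_lift : ∀ r ∈ Cfsg.Spor.coxRelators Cfsg.Spor.J4.edges ∪ {r | r ∈ Cfsg.Spor.J4.extra},
    FreeGroup.lift gen r = 1 := by
  rintro r (⟨a, ha, -⟩ | hr)
  · simp [Cfsg.Spor.coxNodes, Cfsg.Spor.J4.edges] at ha
  · simp only [Set.mem_setOf_eq, Cfsg.Spor.J4.extra, List.mem_cons, List.not_mem_nil, or_false] at hr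
    rcases hr with rfl | rfl | rfl | rfl | rfl | rfl | rfl | rfl | rfl | rfl | rfl | rfl
    · simp only [map_mul, map_inv, map_pow, FreeGroup.lift_apply_of, gen]; exact rel_0
    · simp only [map_mul, map_inv, map_pow, FreeGroup.lift_apply_of, gen]; exact rel_1
    · simp only [map_mul, map_inv, map_pow, FreeGroup.lift_apply_of, gen]; exact rel_2
    · simp only [map_mul, map_inv, map_pow, FreeGroup.lift_apply_of, gen]; exact rel_3
    · simp only [map_mul, map_inv, map_pow, FreeGroup.lift_apply_of, gen]; exact rel_4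
    · simp only [map_mul, map_inv, map_pow, FreeGroup.lift_apply_of, gen]; exact rel_5
    · simp only [map_mul, map_inv, map_pow, FreeGroup.lift_apply_of, gen]; exact rel_6
    · simp only [map_mul, map_inv, map_pow, FreeGroup.lift_apply_of, gen]; exact rel_7
    · simp only [map_mul, map_inv, map_pow, FreeGroup.lift_apply_of, gen]; exact rel_8
    · simp only [map_mul, map_inv, map_pow, FreeGroup.lift_apply_of, gen]; exact rel_9
    · simp only [map_mul, map_inv, map_pow, FreeGroup.lift_apply_of, gen]; exact rel_10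
    · simp only [map_mul, map_inv, map_pow, FreeGroup.lift_apply_of, gen]; exact rel_11

/-- The homomorphism. -/
noncomputable def hom : Cfsg.Spor.J4 →* Equiv.Perm (Vec 112) := PresentedGroup.toGroup rels_lift

theorem hom_x_ne : hom (PresentedGroup.of Cfsg.Spor.J4.Gen.x) ≠ 1 := by
  rw [hom, PresentedGroup.toGroup.of]
  intro h
  have h1 := rx ⟨1, by norm_num⟩
  rw [show gx = 1 from h] at h1
  exact (by decide +kernel : (1 : ℕ) ≠ app m0 1) h1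

end CfsgLib.KnownA.J4Mat
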