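import Cfsg.Agent.Lib.KnownA.J4.Chain
import Cfsg.Agent.Lib.KnownA.J4.MatRep

/-!
# The subgroup generated by x and y in the presented J4 is M24
-/

set_option autoImplicit false

namespace CfsgLib.KnownA.J4M24

open Cfsg CfsgLib.Golay

theorem Hyp.prod {G H : Type*} [Group G] [Group H] {x y : G} {x' y' : H} (h : Hyp x y) (h' : Hyp x' y') :
    Hyp (x, x') (y, y') :=
  ⟨Prod.ext h.r1 h'.r1, Prod.ext h.r2 h'.r2, Prod.ext h.r3 h'.r3, Prod.ext h.r4 h'.r4,
    Prod.ext h.r5 h'.r5, Prod.ext h.r6 h'.r6, Prod.ext h.r7 h'.r7⟩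

/-- The image of the first generator in the presented group. -/
noncomputable abbrev gX : Spor.J4 := PresentedGroup.of Spor.J4.Gen.x

/-- The image of the second generator in the presented group. -/
noncomputable abbrev gY : Spor.J4 := PresentedGroup.of Spor.J4.Gen.y

theorem hyp_J4 : Hyp gX gY := by
  have h : ∀ r ∈ Spor.J4.extra, PresentedGroup.mk
      (Spor.coxRelators Spor.J4.edges ∪ {r | r ∈ Spor.J4.extra}) r = 1 :=
    fun r hr => PresentedGroup.one_of_mem (Or.inr hr)
  simp only [Spor.J4.extra, List.forall_mem_cons, map_mul, map_inv, map_pow] at h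
  obtain ⟨h1, h2, h3, h4, h5, h6, h7, -⟩ := h
  exact ⟨h1, h2, h3, h4, h5, h6, h7⟩

theorem gX_ne_one : gX ≠ 1 := fun h =>
  J4Mat.hom_x_ne (by rw [show PresentedGroup.of Spor.J4.Gen.x = (1 : Spor.J4) from h, map_one])

/-- The diagonal subgroup. -/
noncomputable def diag : Subgroup (Spor.J4 × Equiv.Perm GolayPt) :=
  Subgroup.closure {(gX, px), (gY, py)}

theorem gX_mem : (gX, px) ∈ diag := Subgroup.subset_closure (Set.mem_insert _ _)

theorem gY_mem : (gY, py) ∈ diag := Subgroup.subset_closure (Set.mem_insert_of_mem _ rfl)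

/-- The data for the bound on the diagonal subgroup. -/
noncomputable def ctx : Ctx diag where
  x := ⟨_, gX_mem⟩
  y := ⟨_, gY_mem⟩
  f := (MonoidHom.snd Spor.J4 (Equiv.Perm GolayPt)).comp diag.subtype
  hyp := by
    have h := hyp_J4.prod hyp_perm
    exact ⟨Subtype.ext h.r1, Subtype.ext h.r2, Subtype.ext h.r3, Subtype.ext h.r4,
      Subtype.ext h.r5, Subtype.ext h.r6, Subtype.ext h.r7⟩
  fx := rfl
  fy := rfl
  gen := by
    refine Eq.trans (congrArg _ ?_) (Subgroup.closure_closure_coe_preimage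
      (k := ({(gX, px), (gY, py)} : Set (Spor.J4 × Equiv.Perm GolayPt))))
    ext ⟨z, hz⟩
    simp only [Set.mem_insert_iff, Set.mem_singleton_iff, Set.mem_preimage, Subtype.mk.injEq]
    exact Iff.rfl

theorem map_snd_diag : diag.map (MonoidHom.snd Spor.J4 (Equiv.Perm GolayPt)) = M24 := by
  rw [diag, MonoidHom.map_closure, Set.image_pair]
  exact closure_perm

theorem map_fst_diag :
    diag.map (MonoidHom.fst Spor.J4 (Equiv.Perm GolayPt)) = Subgroup.closure {gX, gY} := by
  rw [diag, MonoidHom.map_closure, Set.image_pair]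
  rfl

/-- The diagonal subgroup maps isomorphically onto M24. -/
theorem diag_equiv : Nonempty (diag ≃* M24) := by
  obtain ⟨hfin, hle⟩ := ctx.finite_and_card_le
  let φ : diag →* M24 := ((MonoidHom.snd Spor.J4 (Equiv.Perm GolayPt)).comp diag.subtype).codRestrict
    M24 fun z => by
      rw [← map_snd_diag]
      exact Subgroup.mem_map.2 ⟨z.1, z.2, rfl⟩
  have hsurj : Function.Surjective φ := by
    rintro ⟨g, hg⟩
    rw [← map_snd_diag] at hg
    obtain ⟨z, hz, rfl⟩ := Subgroup.mem_map.1 hg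
    exact ⟨⟨z, hz⟩, rfl⟩
  haveI : Finite diag := hfin
  have hcard : Nat.card diag ≤ Nat.card M24 := by rw [card_M24]; exact hle
  exact ⟨MulEquiv.ofBijective φ ((Nat.bijective_iff_surjective_and_card φ).2
    ⟨hsurj, le_antisymm hcard (Nat.card_le_card_of_surjective φ hsurj)⟩)⟩

theorem closure_equiv : Nonempty ((Subgroup.closure {gX, gY} : Subgroup Spor.J4) ≃* M24) := by
  obtain ⟨e⟩ := diag_equiv
  let g : diag →* Spor.J4 := (MonoidHom.fst Spor.J4 (Equiv.Perm GolayPt)).comp diag.subtype
  have hrange : g.range = Subgroup.closure {gX, gY} := by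
    rw [← map_fst_diag, MonoidHom.range_comp, Subgroup.range_subtype]
  have hker : g.ker = ⊥ := by
    haveI := isSimple_M24
    haveI hn : (g.ker.map e.toMonoidHom).Normal := Subgroup.Normal.map inferInstance _ e.surjective
    rcases hn.eq_bot_or_eq_top with h | h
    · exact (Subgroup.map_eq_bot_iff_of_injective _ e.injective).1 h
    · exfalso
      have htop : g.ker = ⊤ := by
        rw [← Subgroup.comap_map_eq_self_of_injective (f := e.toMonoidHom) e.injective g.ker, h, Subgroup.comap_top]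
      have hx : (⟨_, gX_mem⟩ : diag) ∈ g.ker := htop ▸ Subgroup.mem_top _
      exact gX_ne_one (MonoidHom.mem_ker.1 hx)
  exact ⟨((MulEquiv.subgroupCongr hrange).symm.trans
    (MonoidHom.ofInjective ((MonoidHom.ker_eq_bot_iff g).1 hker)).symm).trans e⟩

theorem map_closure_equiv :
    Nonempty ((((Subgroup.closure ({Spor.J4.x, Spor.J4.y} : Set (FreeGroup Spor.J4.Gen))).map
      (PresentedGroup.mk (Spor.coxRelators Spor.J4.edges ∪ {r | r ∈ Spor.J4.extra})))) ≃* M24) := by
  obtain ⟨e⟩ := closure_equiv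
  refine ⟨(MulEquiv.subgroupCongr ?_).trans e⟩
  rw [MonoidHom.map_closure, Set.image_pair]
  rfl

end CfsgLib.KnownA.J4M24
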