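import Cfsg.Agent.Lib.KnownA.J4.Words
import Cfsg.Agent.Lib.KnownA.CosetGoal

/-!
# Bounds for subgroups generated by two elements, and injectivity from orders
-/

set_option autoImplicit false

namespace CfsgLib.KnownA.J4M24

open CfsgLib.InvChar.Coset CfsgLib.KnownA.CosetInv

/-- The inverse letters `0, 2, 1` are respected. -/
theorem good_lett {G : Type*} [Group G] {x y : G} (hx : x * x = 1) {D : CosetInv.Cert}
    (hiv : ∀ n, D.iv n = if n = 1 then 2 else if n = 2 then 1 else n) : Good D (lett x y) where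
  eps := rfl
  inv n := by
    rw [hiv]
    match n with
    | 0 => simp [lett, (inv_eq_of_mul_eq_one_right hx)]
    | 1 => simp [lett]
    | 2 => simp [lett]
    | k + 3 => simp [lett]

/-- The inverse letter table `0, 2, 1, 3, ..., 15`. -/
theorem iv_eq {D : CosetInv.Cert} (h : D.ivs = 0xfedcba9876543120) :
    ∀ n, D.iv n = if n = 1 then 2 else if n = 2 then 1 else n := by
  intro n
  rcases Nat.lt_or_ge n 16 with hn | hn
  · unfold CosetInv.Cert.iv
    rw [h, show Nat.blt n 16 = true by simpa [Nat.blt] using hn, cond_true]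
    interval_cases n <;> decide
  · unfold CosetInv.Cert.iv
    rw [show Nat.blt n 16 = false from Bool.eq_false_iff.2 fun h => by have := Nat.le_of_ble_eq_true h; omega, cond_false, if_neg (by omega), if_neg (by omega)]

/-- A table over `⟨v⟩` bounds the subgroup generated by `x` and `v`. -/
theorem card_pair_le {D : CosetInv.Cert} {T : Table} {live fin : Tr} (hC : Covered D T live fin)
    (hg3 : T.g = 3) (hivs : D.ivs = 0xfedcba9876543120) (hsub : D.subs = [[1]])
    {G : Type*} [Group G] {x v : G} (hx : x * x = 1) {m : ℕ} (hm : 0 < m) (hv : v ^ m = 1)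
    (hR : ∀ r ∈ D.rels, wprod (lett x v) r = 1) :
    Finite (Subgroup.closure ({x, v} : Set G)) ∧
      Nat.card (Subgroup.closure ({x, v} : Set G)) ≤ T.n * m := by
  set K := Subgroup.closure ({x, v} : Set G) with hK
  let x' : K := ⟨x, Subgroup.subset_closure (by simp)⟩
  let v' : K := ⟨v, Subgroup.subset_closure (by simp)⟩
  have hlett : ∀ n, ((lett x' v' n : K) : G) = lett x v n := by
    intro n
    match n with
    | 0 => rfl
    | 1 => rfl
    | 2 => rfl
    | k + 3 => rfl
  have hR' : ∀ r ∈ D.rels, wprod (lett x' v') r = 1 := fun r hr => by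
    apply Subtype.ext
    rw [← Subgroup.coe_subtype, map_wprod K.subtype (lett x' v') (lett x v) r fun n _ => hlett n, hR r hr]
    rfl
  have hgen : Subgroup.closure (lett x' v' '' Set.Iio T.g) = ⊤ := by
    rw [eq_top_iff, ← Subgroup.closure_closure_coe_preimage (k := ({x, v} : Set G)), Subgroup.closure_le]
    intro z hz
    rcases (hz : (z : G) ∈ ({x, v} : Set G)) with h | h
    · exact Subgroup.subset_closure ⟨0, by simp [hg3], Subtype.ext h.symm⟩
    · exact Subgroup.subset_closure ⟨1, by simp [hg3], Subtype.ext h.symm⟩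
  have hS : ∀ r ∈ D.subs, wprod (lett x' v') r ∈ Subgroup.zpowers v' := by
    rw [hsub]; simp [wprod, lett]
  obtain ⟨h0, hle⟩ := hC.index_le (lett x' v') (Subgroup.zpowers v')
    (good_lett (Subtype.ext hx) (iv_eq hivs)) hR' hS hgen
  have hv' : v' ^ m = 1 := Subtype.ext hv
  have hcard : Nat.card (Subgroup.zpowers v') ≤ m ∧ Nat.card (Subgroup.zpowers v') ≠ 0 := by
    rw [Nat.card_zpowers]
    exact ⟨orderOf_le_of_pow_eq_one hm hv',
      orderOf_ne_zero_iff.2 (isOfFinOrder_iff_pow_eq_one.2 ⟨m, hm, hv'⟩)⟩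
  have hmul := (Subgroup.zpowers v').card_mul_index
  refine ⟨Nat.finite_of_card_ne_zero ?_, ?_⟩
  · rw [← hmul]; exact Nat.mul_ne_zero hcard.2 h0
  · rw [← hmul, mul_comm]; exact Nat.mul_le_mul hle hcard.1

/-- In a cyclic group of prime exponent mapped nontrivially, the kernel is trivial. -/
theorem eq_one_of_mem_zpowers {G Q : Type*} [Group G] [Group Q] (f : G →* Q) {a r : G} {p : ℕ}
    (hp : p.Prime) (ha : a ^ p = 1) (hfa : f a ≠ 1) (hr : r ∈ Subgroup.zpowers a) (hfr : f r = 1) :
    r = 1 := by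
  obtain ⟨k, rfl⟩ := Subgroup.mem_zpowers_iff.1 hr
  rcases em ((p : ℤ) ∣ k) with ⟨c, rfl⟩ | hk
  · rw [zpow_mul, zpow_natCast, ha, one_zpow]
  · obtain ⟨u, w, e⟩ := ((Nat.prime_iff_prime_int.1 hp).coprime_iff_not_dvd).2 hk
    refine absurd ?_ hfa
    have h2 : f a = f ((a ^ (p : ℤ)) ^ u * (a ^ k) ^ w) := by
      rw [← zpow_mul, ← zpow_mul, ← zpow_add, mul_comm (p : ℤ) u, mul_comm k w, e, zpow_one]
    rw [h2, zpow_natCast, ha, one_zpow, one_mul, map_zpow, hfr, one_zpow]

/-- A subgroup no larger than its image meets the kernel trivially. -/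
theorem eq_one_of_card_le {G Q : Type*} [Group G] [Group Q] (f : G →* Q) {K : Subgroup G} [Finite K]
    (h : Nat.card K ≤ Nat.card (K.map f)) {r : G} (hr : r ∈ K) (hfr : f r = 1) : r = 1 := by
  have hbij : Function.Bijective (f.subgroupMap K) :=
    (f.subgroupMap_surjective K).bijective_of_nat_card_le h
  have : (⟨r, hr⟩ : K) = 1 := hbij.1 (by rw [map_one]; exact Subtype.ext (by simpa using hfr))
  exact congrArg Subtype.val this

end CfsgLib.KnownA.J4M24
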