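import Cfsg.Agent.Lib.KnownA.CosetInv
import Cfsg.Agent.Lib.InvChar.CosetGroup

/-!
# Words in an involution and an element of order three

The seven relators of the presentation of M24 on `x, y`, and free reduction of words in the letters
`0 ↦ x`, `1 ↦ y`, `2 ↦ y⁻¹`.
-/

set_option autoImplicit false

namespace CfsgLib.KnownA.J4M24

open CfsgLib.InvChar.Coset

/-- The letters `x, y, y⁻¹`. -/
def lett {G : Type*} [Group G] (x y : G) : ℕ → G
  | 0 => x
  | 1 => y
  | 2 => y⁻¹
  | _ + 3 => 1

/-- The seven relators, as stated in the presentation of J4. -/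
structure Hyp {G : Type*} [Group G] (x y : G) : Prop where
  r1 : x ^ 2 = 1
  r2 : y ^ 3 = 1
  r3 : (x * y) ^ 23 = 1
  r4 : (x⁻¹ * y⁻¹ * x * y) ^ 12 = 1
  r5 : (x⁻¹ * (y * x * y)⁻¹ * x * (y * x * y)) ^ 5 = 1
  r6 : (x * y * ((x * y * x * (y⁻¹)) ^ 3)) ^ 4 = 1
  r7 : ((x * y * x * y * x * (y⁻¹)) ^ 3) * ((x * y * x * (y⁻¹) * x * (y⁻¹)) ^ 3) = 1

/-- The relators as words. -/
def rels7 : List (List ℕ) :=
  [[0, 0], [1, 1, 1], (List.replicate 23 [0, 1]).flatten, (List.replicate 12 [0, 2, 0, 1]).flatten,
    (List.replicate 5 [0, 2, 0, 2, 0, 1, 0, 1]).flatten,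
    (List.replicate 4 ([0, 1] ++ (List.replicate 3 [0, 1, 0, 2]).flatten)).flatten,
    (List.replicate 3 [0, 1, 0, 1, 0, 2]).flatten ++ (List.replicate 3 [0, 1, 0, 2, 0, 2]).flatten,
    [1, 2], [2, 1]]

theorem wprod_flatten_replicate {G : Type*} [Group G] (s : ℕ → G) (L : List ℕ) :
    ∀ n : ℕ, wprod s (List.replicate n L).flatten = (wprod s L) ^ n
  | 0 => by simp [wprod]
  | n + 1 => by
    rw [List.replicate_succ, List.flatten_cons, wprod_append, wprod_flatten_replicate s L n, pow_succ']

theorem Hyp.inv_x {G : Type*} [Group G] {x y : G} (h : Hyp x y) : x⁻¹ = x :=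
  inv_eq_of_mul_eq_one_right (by rw [← pow_two]; exact h.r1)

theorem Hyp.wprod_rels {G : Type*} [Group G] {x y : G} (h : Hyp x y) :
    ∀ r ∈ rels7, wprod (lett x y) r = 1 := by
  have hx := h.inv_x
  have h4 := h.r4
  have h5 := h.r5
  rw [hx] at h4 h5
  simp only [rels7, List.forall_mem_cons, List.not_mem_nil, wprod_append, wprod_flatten_replicate]
  refine ⟨?_, ?_, ?_, ?_, ?_, ?_, ?_, ?_, ?_, fun _ hf => hf.elim⟩
  · simpa [wprod, lett, pow_two] using h.r1
  · simpa [wprod, lett, pow_succ, mul_assoc] using h.r2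
  · simpa [wprod, lett] using h.r3
  · simpa [wprod, lett, mul_assoc] using h4
  · simpa [wprod, lett, hx, mul_assoc] using h5
  · simpa [wprod, lett, mul_assoc] using h.r6
  · simpa [wprod, lett, mul_assoc] using h.r7
  · simp [wprod, lett]
  · simp [wprod, lett]

/-- One step of reduction on a reversed word. -/
def redStep : List ℕ → ℕ → List ℕ
  | [], z => [z]
  | c :: r, z =>
    if (c = 0 ∧ z = 0) ∨ (c = 1 ∧ z = 2) ∨ (c = 2 ∧ z = 1) then r
    else if c = z ∧ (z = 1 ∨ z = 2) then (3 - z) :: r
    else z :: c :: r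

/-- Reduction of a word. -/
def red (L : List ℕ) : List ℕ := (L.foldl redStep []).reverse

theorem wprod_redStep {G : Type*} [Group G] {x y : G} (h : Hyp x y) (st : List ℕ) (z : ℕ) :
    wprod (lett x y) (redStep st z).reverse = wprod (lett x y) st.reverse * lett x y z := by
  have hxx : x * x = 1 := by rw [← pow_two]; exact h.r1
  have hyy : y * y = y⁻¹ := by
    refine (inv_eq_of_mul_eq_one_right ?_).symm
    rw [← mul_assoc, ← pow_two, ← pow_succ]; exact h.r2
  have happ : ∀ (L : List ℕ) (a : ℕ),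
      wprod (lett x y) (L ++ [a]) = wprod (lett x y) L * lett x y a := by
    intro L a; simp [wprod]
  cases st with
  | nil => simp [redStep, wprod]
  | cons c r =>
    simp only [redStep]
    split_ifs with h1 h2
    · rw [List.reverse_cons, happ, mul_assoc]
      rcases h1 with ⟨rfl, rfl⟩ | ⟨rfl, rfl⟩ | ⟨rfl, rfl⟩ <;> simp [lett, hxx]
    · obtain ⟨rfl, rfl | rfl⟩ := h2
      · rw [List.reverse_cons, List.reverse_cons, happ, happ, mul_assoc]
        simp [lett, hyy]
      · rw [List.reverse_cons, List.reverse_cons, happ, happ, mul_assoc]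
        simp [lett, ← mul_inv_rev, hyy]
    · rw [List.reverse_cons, happ]

theorem wprod_red {G : Type*} [Group G] {x y : G} (h : Hyp x y) (L : List ℕ) :
    wprod (lett x y) (red L) = wprod (lett x y) L := by
  suffices ∀ st, wprod (lett x y) (L.foldl redStep st).reverse =
      wprod (lett x y) st.reverse * wprod (lett x y) L by
    simpa [red, wprod] using this []
  intro st
  induction L generalizing st with
  | nil => simp [wprod]
  | cons a L ih =>
    rw [List.foldl_cons, ih, wprod_redStep h, mul_assoc]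
    simp [wprod]

/-- Substitute words for the letters. -/
def subst (e : ℕ → List ℕ) (r : List ℕ) : List ℕ := r.flatMap e

theorem wprod_subst {G : Type*} [Group G] (s f : ℕ → G) (e : ℕ → List ℕ) (he : ∀ a, wprod s (e a) = f a) :
    ∀ r : List ℕ, wprod s (subst e r) = wprod f r
  | [] => by simp [subst, wprod]
  | a :: r => by
    rw [subst, List.flatMap_cons, wprod_append, he]
    show f a * wprod s (subst e r) = _
    rw [wprod_subst s f e he r]
    simp [wprod]

end CfsgLib.KnownA.J4M24
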